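import Cfsg.Agent.Lib.Helper7.PGL.Defs

set_option autoImplicit false
set_option linter.unusedSimpArgs false
set_option linter.unusedSectionVars false
set_option linter.unusedVariables false

/-! Ladder PGLMAX (statement S5891), rung BAS. -/

namespace Cfsg.Agent.Lib.Helper7.PGLMax

open Matrix MatrixGroups Subgroup Cfsg.Agent.Lib.Helper46 Cfsg.Agent.Lib.Helper18.SL2
open Cfsg.Agent.Lib.Helper7 Cfsg.Agent.Lib.Helper7.PMax

variable {F : Type*} [Field F]

theorem center_le_G0 (M : Subgroup (ProjGenLinGroup (Fin 2) F)) :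
    center (SpecialLinearGroup (Fin 2) F) ≤ G0 M := by
  intro z hz
  rw [← SpecialLinearGroup.toPGL_ker, MonoidHom.mem_ker] at hz
  rw [mem_G0]
  have : ProjGenLinGroup.mk (SpecialLinearGroup.toGL z) = 1 := hz
  rw [this]
  exact one_mem _

theorem mk_toGL_conjGL (Δ : GL (Fin 2) F) (s : SpecialLinearGroup (Fin 2) F) :
    ProjGenLinGroup.mk (SpecialLinearGroup.toGL (conjGL Δ s)) =
      (ProjGenLinGroup.mk Δ)⁻¹ * ProjGenLinGroup.mk (SpecialLinearGroup.toGL s) *
        ProjGenLinGroup.mk Δ := by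
  rw [toGL_conjGL, map_mul, map_mul, map_inv]

theorem conjGL_mem_G0 {M : Subgroup (ProjGenLinGroup (Fin 2) F)} {Δ : GL (Fin 2) F}
    (hΔ : ProjGenLinGroup.mk Δ ∈ M) {s : SpecialLinearGroup (Fin 2) F} (hs : s ∈ G0 M) :
    conjGL Δ s ∈ G0 M := by
  rw [mem_G0, mk_toGL_conjGL]
  exact M.mul_mem (M.mul_mem (M.inv_mem hΔ) hs) hΔ

theorem tr_conjGL (Δ : GL (Fin 2) F) (s : SpecialLinearGroup (Fin 2) F) :
    tr (conjGL Δ s) = tr s := by
  have h1 : ∀ t : SpecialLinearGroup (Fin 2) F, tr t = Matrix.trace t.1 := by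
    intro t
    rw [Matrix.trace_fin_two]; rfl
  have h2 : (conjGL Δ s).1 = (Δ⁻¹ : GL (Fin 2) F).1 * s.1 * Δ.1 := rfl
  rw [h1, h1, h2, Matrix.trace_mul_comm, ← mul_assoc]
  have h3 : Δ.1 * (Δ⁻¹ : GL (Fin 2) F).1 = 1 := by
    rw [← Units.val_mul, mul_inv_cancel]; rfl
  rw [h3, one_mul]

theorem G0_ne_top {M : Subgroup (ProjGenLinGroup (Fin 2) F)} (h : Ctx M) : G0 M ≠ ⊤ := by
  intro ht
  apply h.notle
  rintro _ ⟨s, rfl⟩
  have : s ∈ G0 M := ht ▸ mem_top s
  exact this

theorem map_G0_le (M : Subgroup (ProjGenLinGroup (Fin 2) F)) :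
    (G0 M).map (ProjGenLinGroup.mk.comp SpecialLinearGroup.toGL) ≤ M :=
  Subgroup.map_comap_le _ _

theorem map_G0_equiv (M : Subgroup (ProjGenLinGroup (Fin 2) F)) :
    Nonempty ((G0 M).map (ProjGenLinGroup.mk.comp SpecialLinearGroup.toGL) ≃* img (G0 M)) := by
  have e := (img (G0 M)).equivMapOfInjective _
    (ProjectiveSpecialLinearGroup.toPGL_injective (n := Fin 2) (R := F))
  have h : (img (G0 M)).map ProjectiveSpecialLinearGroup.toPGL =
      (G0 M).map (ProjGenLinGroup.mk.comp SpecialLinearGroup.toGL) := by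
    rw [img, Subgroup.map_map]
    rfl
  exact ⟨(e.trans (MulEquiv.subgroupCongr h)).symm⟩

theorem mk_mem_range_iff_isSquare (Δ : GL (Fin 2) F) :
    ProjGenLinGroup.mk Δ ∈ (ProjGenLinGroup.mk.comp
      (SpecialLinearGroup.toGL (n := Fin 2) (R := F))).range ↔ IsSquare (Δ.det : F) := by
  constructor
  · rintro ⟨s, hs⟩
    have hs' : ProjGenLinGroup.mk (SpecialLinearGroup.toGL s) = ProjGenLinGroup.mk Δ := hs
    rw [ProjGenLinGroup.mk_eq_mk_iff] at hs'
    obtain ⟨c, hc⟩ := hs'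
    refine ⟨(c : F), ?_⟩
    rw [← hc, map_mul]
    have h1 : ((SpecialLinearGroup.toGL s).det : F) = 1 := by
      simp
    have h2 : ((GeneralLinearGroup.scalar (Fin 2) c).det : F) = c * c := by
      simp [GeneralLinearGroup.scalar, Matrix.det_fin_two]
      ring
    rw [Units.val_mul, h1, h2, one_mul]
  · intro h
    obtain ⟨x, hx⟩ := mk_mem_range_toPGL Δ h
    induction x using QuotientGroup.induction_on with | H s =>
    exact ⟨s, hx⟩

theorem card_PGL [Fintype F] : Nat.card (ProjGenLinGroup (Fin 2) F) =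
    Fintype.card F * (Fintype.card F ^ 2 - 1) := by
  rw [Cfsg.Agent.S0265.result 2, Cfsg.Agent.Lib.Helper7.card_SL2]

theorem mul_mem_range [Fintype F] {a b : ProjGenLinGroup (Fin 2) F}
    (ha : a ∉ (ProjGenLinGroup.mk.comp (SpecialLinearGroup.toGL (n := Fin 2) (R := F))).range)
    (hb : b ∉ (ProjGenLinGroup.mk.comp (SpecialLinearGroup.toGL (n := Fin 2) (R := F))).range) :
    a * b ∈ (ProjGenLinGroup.mk.comp (SpecialLinearGroup.toGL (n := Fin 2) (R := F))).range := by
  classical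
  obtain ⟨A, rfl⟩ := ProjGenLinGroup.mk_surjective a
  obtain ⟨B, rfl⟩ := ProjGenLinGroup.mk_surjective b
  rw [mk_mem_range_iff_isSquare, ← quadraticChar_neg_one_iff_not_isSquare] at ha hb
  rw [← map_mul, mk_mem_range_iff_isSquare, map_mul, Units.val_mul,
    ← quadraticChar_one_iff_isSquare (mul_ne_zero A.det.ne_zero B.det.ne_zero), map_mul, ha, hb]
  norm_num

theorem card_eq [Fintype F] (hodd : Odd (Fintype.card F))
    {M : Subgroup (ProjGenLinGroup (Fin 2) F)} (h : Ctx M) : Nat.card M = Nat.card (G0 M) := by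
  have h2 : (2 : F) ≠ 0 := PSub.two_ne_zero_of_odd_card hodd
  set L := (ProjGenLinGroup.mk.comp (SpecialLinearGroup.toGL (n := Fin 2) (R := F))).range with hL
  have hLt : L ≠ ⊤ := by
    intro ht
    have hc : ringChar F ≠ 2 := by
      intro hc
      apply h2
      have := ringChar.spec F 2
      rw [hc] at this
      exact_mod_cast this.2 (dvd_refl 2)
    obtain ⟨a, ha⟩ := FiniteField.exists_nonsquare hc
    have ha0 : a ≠ 0 := by
      rintro rfl
      exact ha (IsSquare.zero)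
    let Δ : GL (Fin 2) F := GeneralLinearGroup.mkOfDetNeZero !![a, 0; 0, 1] (by
      simp [Matrix.det_fin_two, ha0])
    have h1 : ProjGenLinGroup.mk Δ ∈ L := ht ▸ mem_top _
    rw [hL, mk_mem_range_iff_isSquare] at h1
    apply ha
    have h3 : (Δ.det : F) = a := by
      simp [Δ, GeneralLinearGroup.mkOfDetNeZero, Matrix.det_fin_two]
    rwa [h3] at h1
  obtain ⟨t, htM, htL⟩ : ∃ t ∈ M, t ∉ L := by
    by_contra hcon
    push Not at hcon
    have hML : M ≤ L := hcon
    rcases eq_or_lt_of_le hML with he | hlt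
    · exact h.notle he.ge
    · exact hLt (h.coatom.2 _ hlt)
  have h4 : Nat.card M = 2 * Nat.card (M ⊓ L : Subgroup _) :=
    card_eq_two_mul inf_le_left htM (fun hh => htL hh.2) (fun b hb hbn =>
      ⟨M.mul_mem hb htM, mul_mem_range (fun hbL => hbn ⟨hb, hbL⟩) htL⟩)
  have h5 : (G0 M).map (ProjGenLinGroup.mk.comp SpecialLinearGroup.toGL) = M ⊓ L := by
    rw [G0, Subgroup.map_comap_eq, inf_comm]
  obtain ⟨e⟩ := map_G0_equiv M
  rw [h4, ← h5, Nat.card_congr e.toEquiv, card_img (center_le_G0 M), zc_of_two_ne h2]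

end Cfsg.Agent.Lib.Helper7.PGLMax
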