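import Cfsg.Agent.Lib.Helper7.PGL.Defs
import Cfsg.Agent.Lib.Helper7.PGL.BAS

set_option autoImplicit false
set_option linter.unusedSimpArgs false
set_option linter.unusedSectionVars false
set_option linter.unusedVariables false

/-! Ladder PGLMAX (statement S5891), rung FRGL. -/

namespace Cfsg.Agent.Lib.Helper7.PGLMax

open Matrix MatrixGroups Subgroup Cfsg.Agent.Lib.Helper46 Cfsg.Agent.Lib.Helper18.SL2
open Cfsg.Agent.Lib.Helper7 Cfsg.Agent.Lib.Helper7.PMax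

variable {F : Type*} [Field F]

/-- the matrix of a quaternion -/
def frglM (u v α β γ δ : F) : Matrix (Fin 2) (Fin 2) F :=
  !![α + γ * u + δ * v, β + γ * v - δ * u; -β + γ * v - δ * u, α - γ * u - δ * v]

theorem frgl_decomp {u v : F} (h : u ^ 2 + v ^ 2 = -1) (h2 : (2 : F) ≠ 0)
    (A : Matrix (Fin 2) (Fin 2) F) :
    A = frglM u v ((A * (1 : SpecialLinearGroup (Fin 2) F).1).trace / 2)
      (-(A * (qI h).1).trace / 2) (-(A * (qJ h).1).trace / 2) (-(A * (qK h).1).trace / 2) := by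
  have e0 : (A * (1 : SpecialLinearGroup (Fin 2) F).1).trace = A 0 0 + A 1 1 := by
    simp [Matrix.trace_fin_two]
  have e1 : (A * (qI h).1).trace = A 1 0 - A 0 1 := by
    simp only [Matrix.trace_fin_two, Matrix.mul_apply, Fin.sum_univ_two, qI, qq, mk2_00, mk2_01,
      mk2_10, mk2_11]; ring
  have e2 : (A * (qJ h).1).trace = (A 0 0 - A 1 1) * u + (A 0 1 + A 1 0) * v := by
    simp only [Matrix.trace_fin_two, Matrix.mul_apply, Fin.sum_univ_two, qJ, qq, mk2_00, mk2_01,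
      mk2_10, mk2_11]; ring
  have e3 : (A * (qK h).1).trace = (A 0 0 - A 1 1) * v - (A 0 1 + A 1 0) * u := by
    simp only [Matrix.trace_fin_two, Matrix.mul_apply, Fin.sum_univ_two, qK, qq, mk2_00, mk2_01,
      mk2_10, mk2_11]; ring
  rw [e0, e1, e2, e3]
  ext i j
  fin_cases i <;> fin_cases j <;> simp [frglM] <;> field_simp
  · linear_combination ((A 0 0 - A 1 1)) * h
  · linear_combination ((A 0 1 + A 1 0)) * h
  · linear_combination ((A 0 1 + A 1 0)) * h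
  · linear_combination (-(A 0 0 - A 1 1)) * h

theorem frgl_lin {u v : F} (h : u ^ 2 + v ^ 2 = -1) (α β γ δ : F) :
    frglM u v α β γ δ = α • (1 : Matrix (Fin 2) (Fin 2) F) + β • (qI h).1 + γ • (qJ h).1
      + δ • (qK h).1 := by
  ext i j
  fin_cases i <;> fin_cases j <;> simp [frglM, qI, qJ, qK, qq] <;> ring

theorem frgl_key {M : Subgroup (ProjGenLinGroup (Fin 2) F)} {K : Subfield F}
    (htr : ∀ n ∈ G0 M, tr n ∈ K) {Δ : GL (Fin 2) F} (hΔ : ProjGenLinGroup.mk Δ ∈ M)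
    {x y : SpecialLinearGroup (Fin 2) F} (hx : x ∈ G0 M) (hy : y ∈ G0 M) :
    (Δ.1 * x.1).trace * (Δ.1 * y.1).trace / Δ.1.det ∈ K := by
  have hν : Δ.1.det ≠ 0 := Δ.det.ne_zero
  set ν := Δ.1.det with hνdef
  have hid : (Δ.1 * x.1).trace * (Δ.1 * y.1).trace =
      (Δ.1 * x.1 * (Δ.1 * y.1)).trace + ν * tr (x * y⁻¹) := by
    rw [hνdef]
    simp only [Matrix.trace_fin_two, Matrix.mul_apply, Fin.sum_univ_two, tr, mul_00, mul_11,
      inv_00, inv_01, inv_10, inv_11, Matrix.det_fin_two]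
    ring
  set g : GL (Fin 2) F := Δ * SpecialLinearGroup.toGL x * (Δ * SpecialLinearGroup.toGL y) with hg
  have hgM : ProjGenLinGroup.mk g ∈ M := by
    rw [hg, map_mul, map_mul, map_mul]
    exact M.mul_mem (M.mul_mem hΔ hx) (M.mul_mem hΔ hy)
  have hgdet : (g.det : F) = ν * ν := by
    rw [hg, map_mul, map_mul, map_mul]
    simp [hνdef]
  obtain ⟨s', hs'⟩ := (mk_mem_range_iff_isSquare g).2 ⟨ν, hgdet⟩
  have hs'' : ProjGenLinGroup.mk (SpecialLinearGroup.toGL s') = ProjGenLinGroup.mk g := hs'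
  have hs'M : s' ∈ G0 M := by rw [mem_G0, hs'']; exact hgM
  rw [ProjGenLinGroup.mk_eq_mk_iff] at hs''
  obtain ⟨c, hc⟩ := hs''
  have hgm : g.1 = (c : F) • s'.1 := by
    rw [← hc]
    ext i j
    simp [Matrix.scalar_apply, Matrix.mul_diagonal, mul_comm]
  have hcc : (c : F) * c = ν * ν := by
    rw [← hgdet]
    have : (g.det : F) = g.1.det := rfl
    rw [this, hgm, Matrix.det_smul, s'.2]
    simp [sq]
  have hgtr : (Δ.1 * x.1 * (Δ.1 * y.1)).trace = c * tr s' := by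
    have : g.1 = Δ.1 * x.1 * (Δ.1 * y.1) := rfl
    rw [← this, hgm, Matrix.trace_smul, Matrix.trace_fin_two]
    rfl
  rw [hid, hgtr, add_div, mul_div_cancel_left₀ _ hν]
  refine K.add_mem ?_ (htr _ ((G0 M).mul_mem hx ((G0 M).inv_mem hy)))
  have hcases : (c : F) = ν ∨ (c : F) = -ν := by
    have : ((c : F) - ν) * (c + ν) = 0 := by linear_combination hcc
    rcases mul_eq_zero.1 this with h | h
    · left; linear_combination h
    · right; linear_combination h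
  rcases hcases with h | h
  · rw [h, mul_div_cancel_left₀ _ hν]; exact htr _ hs'M
  · rw [h, neg_mul, neg_div, mul_div_cancel_left₀ _ hν]; exact K.neg_mem (htr _ hs'M)

theorem le_YD_of_frame [Fintype F] (p : ℕ) [Fact p.Prime] [CharP F p] (h2 : (2 : F) ≠ 0)
    (K : Subfield F) {u v : F} (h : u ^ 2 + v ^ 2 = -1)
    {M : Subgroup (ProjGenLinGroup (Fin 2) F)} (hI : qI h ∈ G0 M) (hJ : qJ h ∈ G0 M)
    (htr : ∀ n ∈ G0 M, tr n ∈ K) : ∃ D : GL (Fin 2) F, M ≤ YD K D := by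
  obtain ⟨D, u₀, v₀, h₀, hu, hv, hD⟩ := exists_rot' h p h2 K
  refine ⟨D, fun m hm => ?_⟩
  obtain ⟨Δ, rfl⟩ := ProjGenLinGroup.mk_surjective m
  rw [mem_YD, ← map_inv, ← map_mul, ← map_mul]
  have hK : qK h ∈ G0 M := by rw [← qI_mul_qJ]; exact (G0 M).mul_mem hI hJ
  have hν : Δ.1.det ≠ 0 := Δ.det.ne_zero
  set ν := Δ.1.det with hνdef
  set α := (Δ.1 * (1 : SpecialLinearGroup (Fin 2) F).1).trace / 2 with hα
  set β := -(Δ.1 * (qI h).1).trace / 2 with hβ
  set γ := -(Δ.1 * (qJ h).1).trace / 2 with hγ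
  set δ := -(Δ.1 * (qK h).1).trace / 2 with hδ
  have hdec : Δ.1 = frglM u v α β γ δ := frgl_decomp h h2 Δ.1
  have eI : D.1 * (qI h).1 = (qI h₀).1 * D.1 :=
    congrArg Units.val (mul_inv_eq_iff_eq_mul.1 (hD 0 1 0 0 (by ring)))
  have eJ : D.1 * (qJ h).1 = (qJ h₀).1 * D.1 :=
    congrArg Units.val (mul_inv_eq_iff_eq_mul.1 (hD 0 0 1 0 (by ring)))
  have eK : D.1 * (qK h).1 = (qK h₀).1 * D.1 :=
    congrArg Units.val (mul_inv_eq_iff_eq_mul.1 (hD 0 0 0 1 (by ring)))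
  have hcomm : D.1 * Δ.1 = frglM u₀ v₀ α β γ δ * D.1 := by
    rw [hdec, frgl_lin h, frgl_lin h₀]
    simp only [mul_add, add_mul, Matrix.mul_smul, Matrix.smul_mul, eI, eJ, eK, mul_one, one_mul]
  have hconj : (D * Δ * D⁻¹ : GL (Fin 2) F).1 = frglM u₀ v₀ α β γ δ := by
    have e : (D * Δ * D⁻¹ : GL (Fin 2) F).1 = D.1 * Δ.1 * (D⁻¹).1 := rfl
    rw [e, hcomm, mul_assoc]
    have : D.1 * (D⁻¹).1 = 1 := Units.mul_inv D
    rw [this, mul_one]
  have half : (1 / 2 : F) ∈ K := K.div_mem K.one_mem (by exact_mod_cast natCast_mem K 2)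
  set T : Fin 4 → F := ![α, β, γ, δ] with hTdef
  have hT : ∀ i j, T i * T j / ν ∈ K := by
    have hX : ∀ i, ∃ x ∈ G0 M, ∃ ε ∈ K, T i = ε * (Δ.1 * x.1).trace := by
      intro i
      fin_cases i
      · exact ⟨1, (G0 M).one_mem, 1 / 2, half, by
          show α = _
          rw [hα]; ring⟩
      · exact ⟨qI h, hI, -(1 / 2), K.neg_mem half, by
          show β = _
          rw [hβ]; ring⟩
      · exact ⟨qJ h, hJ, -(1 / 2), K.neg_mem half, by
          show γ = _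
          rw [hγ]; ring⟩
      · exact ⟨qK h, hK, -(1 / 2), K.neg_mem half, by
          show δ = _
          rw [hδ]; ring⟩
    intro i j
    obtain ⟨x, hx, ε, hε, e1⟩ := hX i
    obtain ⟨y, hy, ε', hε', e2⟩ := hX j
    have : T i * T j / ν = ε * ε' * ((Δ.1 * x.1).trace * (Δ.1 * y.1).trace / ν) := by
      rw [e1, e2]; ring
    rw [this]
    exact K.mul_mem (K.mul_mem hε hε') (frgl_key htr hm hx hy)
  have lin : ∀ c d : Fin 4 → F, (∀ i, c i ∈ K) → (∀ i, d i ∈ K) →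
      (∑ i, c i * T i) * ((∑ j, d j * T j) / ν) ∈ K := by
    intro c d hc hd
    rw [← mul_div_assoc, Finset.sum_mul_sum, Finset.sum_div]
    refine sum_mem fun i _ => ?_
    rw [Finset.sum_div]
    refine sum_mem fun j _ => ?_
    have : c i * T i * (d j * T j) / ν = c i * d j * (T i * T j / ν) := by ring
    rw [this]
    exact K.mul_mem (K.mul_mem (hc i) (hd j)) (hT i j)
  have hmem4 : ∀ a b c d : F, a ∈ K → b ∈ K → c ∈ K → d ∈ K →
      ∀ i, (![a, b, c, d] : Fin 4 → F) i ∈ K := by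
    intro a b c d ha hb hc hd i
    fin_cases i
    · exact ha
    · exact hb
    · exact hc
    · exact hd
  have hE : ∀ i j, ∃ c : Fin 4 → F, (∀ k, c k ∈ K) ∧
      (frglM u₀ v₀ α β γ δ) i j = ∑ k, c k * T k := by
    apply PSub.forall_fin2
    · refine ⟨![1, 0, u₀, v₀], hmem4 _ _ _ _ K.one_mem K.zero_mem hu hv, ?_⟩
      simp only [frglM, Fin.sum_univ_four, hTdef]
      simp
      ring
    · refine ⟨![0, 1, v₀, -u₀], hmem4 _ _ _ _ K.zero_mem K.one_mem hv (K.neg_mem hu), ?_⟩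
      simp only [frglM, Fin.sum_univ_four, hTdef]
      simp
      ring
    · refine ⟨![0, -1, v₀, -u₀], hmem4 _ _ _ _ K.zero_mem (K.neg_mem K.one_mem) hv
        (K.neg_mem hu), ?_⟩
      simp only [frglM, Fin.sum_univ_four, hTdef]
      simp
      ring
    · refine ⟨![1, 0, -u₀, -v₀], hmem4 _ _ _ _ K.one_mem K.zero_mem (K.neg_mem hu)
        (K.neg_mem hv), ?_⟩
      simp only [frglM, Fin.sum_univ_four, hTdef]
      simp
      ring
  have hne : ∃ i j, (frglM u₀ v₀ α β γ δ) i j ≠ 0 := by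
    by_contra hcon
    push Not at hcon
    have h0 : (D * Δ * D⁻¹ : GL (Fin 2) F).1.det ≠ 0 := (D * Δ * D⁻¹ : GL (Fin 2) F).det.ne_zero
    apply h0
    rw [hconj, Matrix.det_fin_two, hcon 0 0, hcon 0 1]
    ring
  obtain ⟨i₀, j₀, hw⟩ := hne
  rw [PSub.mk_mem_range_iff]
  refine ⟨(frglM u₀ v₀ α β γ δ) i₀ j₀ / ν, div_ne_zero hw hν, fun i j => ?_⟩
  obtain ⟨c, hc, e1⟩ := hE i j
  obtain ⟨d, hd, e2⟩ := hE i₀ j₀
  rw [hconj, e1, e2]
  exact lin c d hc hd

end Cfsg.Agent.Lib.Helper7.PGLMax
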