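import Cfsg.Agent.Lib.Helper7.PGL.Defs
import Cfsg.Agent.Lib.Helper7.PGL.BAS
import Cfsg.Agent.Lib.Helper7.PSL2Emb

set_option autoImplicit false
set_option linter.unusedSimpArgs false
set_option linter.unusedSectionVars false
set_option linter.unusedVariables false

/-! Ladder PGLMAX (statement S5891), rung PP. -/

namespace Cfsg.Agent.Lib.Helper7.PGLMax

open Matrix MatrixGroups Subgroup Cfsg.Agent.Lib.Helper46 Cfsg.Agent.Lib.Helper18.SL2
open Cfsg.Agent.Lib.Helper7 Cfsg.Agent.Lib.Helper7.PMax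

variable {F : Type*} [Field F]

theorem mk_mem_of_normalizes [Fintype F] (hq : 3 < Fintype.card F)
    {M : Subgroup (ProjGenLinGroup (Fin 2) F)} (h : Ctx M)
    (R : Subgroup (SpecialLinearGroup (Fin 2) F))
    (hR1 : ¬ R ≤ center (SpecialLinearGroup (Fin 2) F)) (hR2 : R ≤ G0 M)
    (hinv : ∀ Δ : GL (Fin 2) F, ProjGenLinGroup.mk Δ ∈ M → ∀ s ∈ R, conjGL Δ s ∈ R)
    {Δ₀ : GL (Fin 2) F} (hn : ∀ s ∈ R, conjGL Δ₀ s ∈ R) : ProjGenLinGroup.mk Δ₀ ∈ M := by
  have : Finite (ProjGenLinGroup (Fin 2) F) :=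
    Finite.of_surjective _ (ProjGenLinGroup.mk_surjective (n := Fin 2) (R := F))
  set V := (img R).map (ProjectiveSpecialLinearGroup.toPGL (n := Fin 2) (R := F)) with hV
  have hmemV : ∀ s ∈ R, ProjGenLinGroup.mk (SpecialLinearGroup.toGL s) ∈ V := by
    intro s hs
    exact ⟨QuotientGroup.mk s, ⟨s, hs, rfl⟩, rfl⟩
  have key : ∀ Δ : GL (Fin 2) F, (∀ s ∈ R, conjGL Δ s ∈ R) →
      (ProjGenLinGroup.mk Δ)⁻¹ ∈ normalizer (V : Set (ProjGenLinGroup (Fin 2) F)) := by
    intro Δ hΔ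
    apply mem_normalizer_of_conj_le
    rintro _ ⟨_, ⟨s, hs, rfl⟩, rfl⟩
    have h1 := hmemV _ (hΔ s hs)
    rw [mk_toGL_conjGL] at h1
    rw [inv_inv]
    exact h1
  have hMN : M ≤ normalizer (V : Set (ProjGenLinGroup (Fin 2) F)) := by
    intro m hm
    obtain ⟨Δ, rfl⟩ := ProjGenLinGroup.mk_surjective m
    have := inv_mem (key Δ (hinv Δ hm))
    rwa [inv_inv] at this
  have hN : normalizer (V : Set (ProjGenLinGroup (Fin 2) F)) ≠ ⊤ := by
    intro ht
    have hVn : V.Normal := normalizer_eq_top_iff.mp ht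
    have hW : (V.comap (ProjectiveSpecialLinearGroup.toPGL (n := Fin 2) (R := F))).Normal :=
      hVn.comap _
    rw [hV, Subgroup.comap_map_eq_self_of_injective
      ProjectiveSpecialLinearGroup.toPGL_injective] at hW
    have hsimple : IsSimpleGroup (ProjectiveSpecialLinearGroup (Fin 2) F) :=
      Matrix.ProjectiveSpecialLinearGroup.rank_two_simple (by
        rw [Nat.card_eq_fintype_card]; omega)
    rcases hW.eq_bot_or_eq_top with hb | hb
    · apply hR1
      intro s hs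
      have h1 : (QuotientGroup.mk s : ProjectiveSpecialLinearGroup (Fin 2) F) ∈ img R :=
        ⟨s, hs, rfl⟩
      rw [hb, mem_bot] at h1
      exact (QuotientGroup.eq_one_iff s).1 h1
    · apply G0_ne_top h
      rw [eq_top_iff]
      intro s _
      have h1 : (QuotientGroup.mk s : ProjectiveSpecialLinearGroup (Fin 2) F) ∈ img R :=
        hb ▸ mem_top _
      obtain ⟨t, ht, hts⟩ := h1
      have h2 : t⁻¹ * s ∈ center (SpecialLinearGroup (Fin 2) F) := QuotientGroup.eq.1 hts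
      have h3 := (G0 M).mul_mem (hR2 ht) (center_le_G0 M h2)
      rwa [mul_inv_cancel_left] at h3
  have hMeq : M = normalizer (V : Set (ProjGenLinGroup (Fin 2) F)) := by
    by_contra hne
    exact hN (h.coatom.2 _ (lt_of_le_of_ne hMN hne))
  rw [hMeq]
  have := inv_mem (key Δ₀ hn)
  rwa [inv_inv] at this

theorem conjGL_toGL (n s : SpecialLinearGroup (Fin 2) F) :
    conjGL (SpecialLinearGroup.toGL n) s = n⁻¹ * s * n := by
  apply toGL_inj
  rw [toGL_conjGL, map_mul, map_mul, map_inv]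

theorem mem_G0_of_normalizes [Fintype F] (hq : 3 < Fintype.card F)
    {M : Subgroup (ProjGenLinGroup (Fin 2) F)} (h : Ctx M)
    (R : Subgroup (SpecialLinearGroup (Fin 2) F))
    (hR1 : ¬ R ≤ center (SpecialLinearGroup (Fin 2) F)) (hR2 : R ≤ G0 M)
    (hinv : ∀ Δ : GL (Fin 2) F, ProjGenLinGroup.mk Δ ∈ M → ∀ s ∈ R, conjGL Δ s ∈ R)
    {n : SpecialLinearGroup (Fin 2) F} (hn : ∀ s ∈ R, n * s * n⁻¹ ∈ R) : n ∈ G0 M := by
  have h1 : ProjGenLinGroup.mk (SpecialLinearGroup.toGL n⁻¹) ∈ M :=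
    mk_mem_of_normalizes hq h R hR1 hR2 hinv (Δ₀ := SpecialLinearGroup.toGL n⁻¹) (by
      intro s hs
      rw [conjGL_toGL, inv_inv]
      exact hn s hs)
  have h2 : n⁻¹ ∈ G0 M := h1
  have := (G0 M).inv_mem h2
  rwa [inv_inv] at this

end Cfsg.Agent.Lib.Helper7.PGLMax
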