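import Cfsg.Agent.Lib.Helper7.PGL.Defs
import Cfsg.Agent.Lib.Helper7.PGL.BAS
import Cfsg.Agent.Lib.Helper7.PGL.PP
import Cfsg.Agent.Lib.Helper7.PGL.FRGL

set_option autoImplicit false
set_option linter.unusedSimpArgs false
set_option linter.unusedSectionVars false
set_option linter.unusedVariables false

/-! Ladder PGLMAX (statement S5891), rung A4. -/

namespace Cfsg.Agent.Lib.Helper7.PGLMax

open Matrix MatrixGroups Subgroup Cfsg.Agent.Lib.Helper46 Cfsg.Agent.Lib.Helper18.SL2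
open Cfsg.Agent.Lib.Helper7 Cfsg.Agent.Lib.Helper7.PMax

variable {F : Type*} [Field F]

local notation "mkP" => (QuotientGroup.mk : SpecialLinearGroup (Fin 2) F →
  ProjectiveSpecialLinearGroup (Fin 2) F)

/-! ### conjugating `M` -/

/-- the conjugate of `M` by the image of `P ∈ SL₂(F)` -/
noncomputable def cjM (P : SpecialLinearGroup (Fin 2) F) (M : Subgroup (ProjGenLinGroup (Fin 2) F)) :
    Subgroup (ProjGenLinGroup (Fin 2) F) :=
  M.map (MulAut.conj (ProjGenLinGroup.mk (SpecialLinearGroup.toGL P))).toMonoidHom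

theorem mem_cjM {P : SpecialLinearGroup (Fin 2) F} {M : Subgroup (ProjGenLinGroup (Fin 2) F)}
    {x : ProjGenLinGroup (Fin 2) F} :
    x ∈ cjM P M ↔ (ProjGenLinGroup.mk (SpecialLinearGroup.toGL P))⁻¹ * x *
      ProjGenLinGroup.mk (SpecialLinearGroup.toGL P) ∈ M := by
  rw [cjM, Subgroup.mem_map_equiv, MulAut.conj_symm_apply]

theorem ctx_cjM (P : SpecialLinearGroup (Fin 2) F) {M : Subgroup (ProjGenLinGroup (Fin 2) F)}
    (h : Ctx M) : Ctx (cjM P M) := by
  constructor
  · exact ((MulEquiv.mapSubgroup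
      (MulAut.conj (ProjGenLinGroup.mk (SpecialLinearGroup.toGL P)))).isCoatom_iff M).2 h.coatom
  · intro hle
    apply h.notle
    rintro _ ⟨s, rfl⟩
    have h1 : (ProjGenLinGroup.mk.comp SpecialLinearGroup.toGL) (P * s * P⁻¹) ∈ cjM P M :=
      hle ⟨_, rfl⟩
    rw [mem_cjM] at h1
    have h2 : (ProjGenLinGroup.mk (SpecialLinearGroup.toGL P))⁻¹ *
        (ProjGenLinGroup.mk.comp SpecialLinearGroup.toGL) (P * s * P⁻¹) *
        ProjGenLinGroup.mk (SpecialLinearGroup.toGL P) =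
        (ProjGenLinGroup.mk.comp SpecialLinearGroup.toGL) s := by
      simp only [MonoidHom.comp_apply, map_mul, map_inv]
      group
    rwa [h2] at h1

theorem mem_G0_cjM {P : SpecialLinearGroup (Fin 2) F} {M : Subgroup (ProjGenLinGroup (Fin 2) F)}
    {s : SpecialLinearGroup (Fin 2) F} : s ∈ G0 (cjM P M) ↔ P⁻¹ * s * P ∈ G0 M := by
  rw [mem_G0, mem_G0, mem_cjM]
  simp only [map_mul, map_inv]

theorem le_YD_of_cjM {P : SpecialLinearGroup (Fin 2) F} {M : Subgroup (ProjGenLinGroup (Fin 2) F)}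
    {K : Subfield F} {D : GL (Fin 2) F} (h : cjM P M ≤ YD K D) :
    M ≤ YD K (D * SpecialLinearGroup.toGL P) := by
  intro m hm
  have h1 : ProjGenLinGroup.mk (SpecialLinearGroup.toGL P) * m *
      (ProjGenLinGroup.mk (SpecialLinearGroup.toGL P))⁻¹ ∈ cjM P M := by
    rw [mem_cjM]
    have : (ProjGenLinGroup.mk (SpecialLinearGroup.toGL P))⁻¹ *
      (ProjGenLinGroup.mk (SpecialLinearGroup.toGL P) * m *
      (ProjGenLinGroup.mk (SpecialLinearGroup.toGL P))⁻¹) *
      ProjGenLinGroup.mk (SpecialLinearGroup.toGL P) = m := by group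
    rw [this]; exact hm
  have h2 := h h1
  rw [mem_YD] at h2 ⊢
  have h3 : ProjGenLinGroup.mk (D * SpecialLinearGroup.toGL P) * m *
      (ProjGenLinGroup.mk (D * SpecialLinearGroup.toGL P))⁻¹ =
      ProjGenLinGroup.mk D * (ProjGenLinGroup.mk (SpecialLinearGroup.toGL P) * m *
      (ProjGenLinGroup.mk (SpecialLinearGroup.toGL P))⁻¹) * (ProjGenLinGroup.mk D)⁻¹ := by
    rw [map_mul]; group
  rw [h3]; exact h2

/-! ### the quaternion group -/

theorem conjGL_center (Δ : GL (Fin 2) F) {z : SpecialLinearGroup (Fin 2) F}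
    (hz : z ∈ center (SpecialLinearGroup (Fin 2) F)) : conjGL Δ z = z := by
  obtain ⟨h01, h10, h00⟩ := (mem_center_iff2 z).1 hz
  have hzm : z.1 = (z.1 0 0) • (1 : Matrix (Fin 2) (Fin 2) F) := by
    ext i j
    fin_cases i <;> fin_cases j <;> simp [h01, h10, h00]
  apply Subtype.ext
  have h2 : (conjGL Δ z).1 = (Δ⁻¹ : GL (Fin 2) F).1 * z.1 * Δ.1 := rfl
  have h3 : (Δ⁻¹ : GL (Fin 2) F).1 * Δ.1 = 1 := by
    rw [← Units.val_mul, inv_mul_cancel]; rfl
  rw [h2, hzm, Matrix.mul_smul, Matrix.mul_one, Matrix.smul_mul, h3]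

/-- invariance of `⟨a, b⟩ Z` can be checked on the generators -/
theorem conjGL_mem_quat {a b : SpecialLinearGroup (Fin 2) F} (Δ : GL (Fin 2) F)
    (ha : conjGL Δ a ∈ closure {a, b} ⊔ center (SpecialLinearGroup (Fin 2) F))
    (hb : conjGL Δ b ∈ closure {a, b} ⊔ center (SpecialLinearGroup (Fin 2) F)) :
    ∀ s ∈ closure {a, b} ⊔ center (SpecialLinearGroup (Fin 2) F),
      conjGL Δ s ∈ closure {a, b} ⊔ center (SpecialLinearGroup (Fin 2) F) := by
  have h : closure {a, b} ⊔ center (SpecialLinearGroup (Fin 2) F) ≤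
      (closure {a, b} ⊔ center (SpecialLinearGroup (Fin 2) F)).comap (conjGLHom Δ) := by
    apply sup_le
    · rw [closure_le]
      rintro x (rfl | rfl)
      · exact ha
      · exact hb
    · intro z hz
      show conjGL Δ z ∈ closure {a, b} ⊔ center (SpecialLinearGroup (Fin 2) F)
      rw [conjGL_center Δ hz]
      exact mem_sup_right hz
  exact fun s hs => h hs

theorem a4_core [Fintype F] (p : ℕ) [Fact p.Prime] [CharP F p] (hodd : Odd (Fintype.card F))
    (hq : 3 < Fintype.card F) {M : Subgroup (ProjGenLinGroup (Fin 2) F)} (h : Ctx M)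
    {u v : F} (hh : u ^ 2 + v ^ 2 = -1) (hI : qI hh ∈ G0 M) (hJ : qJ hh ∈ G0 M)
    (htr : ∀ s ∈ G0 M, tr s ∈ (⊥ : Subfield F))
    (hinvol : ∀ s ∈ G0 M, tr s = 0 →
      s ∈ closure {qI hh, qJ hh} ⊔ center (SpecialLinearGroup (Fin 2) F))
    (hno4 : ∀ s ∈ G0 M, mkP s ^ 4 = 1 → mkP s ^ 2 = 1) :
    (Fintype.card F % 8 = 3 ∨ Fintype.card F % 8 = 5) ∧ ∃ D : GL (Fin 2) F, M ≤ YD ⊥ D := by
  have h2 : (2 : F) ≠ 0 := PSub.two_ne_zero_of_odd_card hodd
  refine ⟨?_, le_YD_of_frame p h2 ⊥ hh hI hJ htr⟩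
  by_contra hcon
  have hsq : IsSquare (2 : F) := FiniteField.isSquare_two_iff.2 (by omega)
  obtain ⟨s, hs⟩ := hsq
  have hs' : s ^ 2 = 2 := by rw [sq, ← hs]
  set R := closure {qI hh, qJ hh} ⊔ center (SpecialLinearGroup (Fin 2) F) with hR
  have hIR : qI hh ∈ R := mem_sup_left (subset_closure (by simp))
  have hJR : qJ hh ∈ R := mem_sup_left (subset_closure (by simp))
  have htI : tr (qI hh) = 0 := by rw [qI, tr_qq]; ring
  have htJ : tr (qJ hh) = 0 := by rw [qJ, tr_qq]; ring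
  have hG : qG hh hs' h2 ∈ G0 M := by
    apply mem_G0_of_normalizes hq h R
    · intro hle
      exact not_center_of_mk (mk_qI_ne_one hh h2) (hle hIR)
    · apply sup_le _ (center_le_G0 M)
      rw [closure_le]
      rintro x (rfl | rfl)
      · exact hI
      · exact hJ
    · intro Δ hΔ
      apply conjGL_mem_quat
      · exact hinvol _ (conjGL_mem_G0 hΔ hI) (by rw [tr_conjGL, htI])
      · exact hinvol _ (conjGL_mem_G0 hΔ hJ) (by rw [tr_conjGL, htJ])
    · intro t ht
      have h3 := conjGL_mem_quat (a := qI hh) (b := qJ hh)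
        (SpecialLinearGroup.toGL (qG hh hs' h2)⁻¹) (by
          rw [conjGL_toGL, inv_inv, qG_mul_qI, mul_inv_cancel_right]
          exact hIR) (by
          rw [conjGL_toGL, inv_inv, qG_mul_qJ, mul_inv_cancel_right, ← qI_mul_qJ]
          exact R.mul_mem hIR hJR) t ht
      rwa [conjGL_toGL, inv_inv] at h3
  have h4 : mkP (qG hh hs' h2) ^ 4 = 1 := by
    rw [show 4 = 2 * 2 from rfl, pow_mul, mk_qG_sq, mk_qI_sq]
  have h5 := hno4 _ hG h4
  rw [mk_qG_sq] at h5
  exact mk_qI_ne_one hh h2 h5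

theorem a4_invol : ∀ σ : alternatingGroup (Fin 4), σ ^ 2 = 1 →
    σ = 1 ∨ σ = a4α ∨ σ = a4β ∨ σ = a4α * a4β := by decide +kernel

theorem a4_case [Fintype F] (p : ℕ) [Fact p.Prime] [CharP F p] (hodd : Odd (Fintype.card F))
    (hq : 3 < Fintype.card F) {M : Subgroup (ProjGenLinGroup (Fin 2) F)} (h : Ctx M)
    (e : img (G0 M) ≃* alternatingGroup (Fin 4)) :
    (Fintype.card F % 8 = 3 ∨ Fintype.card F % 8 = 5) ∧ ∃ D : GL (Fin 2) F, M ≤ YD ⊥ D := by
  have h2 : (2 : F) ≠ 0 := PSub.two_ne_zero_of_odd_card hodd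
  have hZ := center_le_G0 M
  have hpre : ∀ s : SpecialLinearGroup (Fin 2) F, s ∈ G0 M ↔ mkP s ∈ img (G0 M) := by
    intro s
    rw [← mem_pre, pre_img hZ]
  obtain ⟨f1, f2, f3, f4, f5, f6⟩ := a4_facts
  have inj : Function.Injective (fun x : alternatingGroup (Fin 4) => ((e.symm x : img (G0 M)) :
      ProjectiveSpecialLinearGroup (Fin 2) F)) := fun x y hxy => e.symm.injective (Subtype.ext hxy)
  obtain ⟨a, b, hA, hB, ta, tb, tab⟩ := frame_of_invol
    (A := ((e.symm a4α : img (G0 M)) : ProjectiveSpecialLinearGroup (Fin 2) F))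
    (B := ((e.symm a4β : img (G0 M)) : ProjectiveSpecialLinearGroup (Fin 2) F))
    (fun h => f1 (inj (by simpa using h))) (fun h => f2 (inj (by simpa using h)))
    (fun h => f3 (inj h))
    (by rw [← Subgroup.coe_pow, ← map_pow, f4, map_one, Subgroup.coe_one])
    (by rw [← Subgroup.coe_pow, ← map_pow, f5, map_one, Subgroup.coe_one])
    (by rw [← Subgroup.coe_mul, ← map_mul, f6, map_mul, Subgroup.coe_mul])
  obtain ⟨P, u, v, hh, hPa, hPb⟩ := conj_frame h2 ta tb tab
  have haG : a ∈ G0 M := by rw [hpre, hA]; exact (e.symm a4α).2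
  have hbG : b ∈ G0 M := by rw [hpre, hB]; exact (e.symm a4β).2
  have hback : ∀ t : SpecialLinearGroup (Fin 2) F, P * (P⁻¹ * t * P) * P⁻¹ = t := by
    intro t; group
  obtain ⟨h8, D, hD⟩ := a4_core p hodd hq (ctx_cjM P h) hh
    (by rw [mem_G0_cjM, ← hPa]; convert haG using 1; group)
    (by rw [mem_G0_cjM, ← hPb]; convert hbG using 1; group)
    (by
      intro t ht
      rw [mem_G0_cjM] at ht
      have h3 : tr t = tr (P⁻¹ * t * P) := by
        have := tr_conj P⁻¹ t
        rw [inv_inv] at this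
        exact this.symm
      rw [h3]
      have hm := (hpre _).1 ht
      apply tr_mem_of_pow ⊥
      rcases a4_orders (e ⟨_, hm⟩) with h | h
      · exact Or.inl ((pow_of_iso e hm).1 h)
      · exact Or.inr ((pow_of_iso e hm).1 h))
    (by
      intro t ht ht0
      rw [mem_G0_cjM] at ht
      have h3 : tr (P⁻¹ * t * P) = 0 := by
        have := tr_conj P⁻¹ t
        rw [inv_inv] at this
        rw [this, ht0]
      have hm := (hpre _).1 ht
      have h4 := a4_invol (e ⟨_, hm⟩) ((pow_of_iso e hm).2 (mk_pow_two_of_tr h3))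
      set R := closure {qI hh, qJ hh} ⊔ center (SpecialLinearGroup (Fin 2) F) with hR
      have hIR : qI hh ∈ R := mem_sup_left (subset_closure (by simp))
      have hJR : qJ hh ∈ R := mem_sup_left (subset_closure (by simp))
      -- `t` is central times one of `1, qI, qJ, qI qJ`
      have key : ∀ c : SpecialLinearGroup (Fin 2) F, P * c * P⁻¹ ∈ R →
          mkP (P⁻¹ * t * P) = mkP c → t ∈ R := by
        intro c hc hmk
        have h5 : c⁻¹ * (P⁻¹ * t * P) ∈ center (SpecialLinearGroup (Fin 2) F) :=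
          QuotientGroup.eq.1 hmk.symm
        have h6 : t = (P * c * P⁻¹) * (P * (c⁻¹ * (P⁻¹ * t * P)) * P⁻¹) := by group
        rw [h6]
        apply R.mul_mem hc
        apply mem_sup_right
        exact (conj_mem_center_iff P _).2 h5
      have hval : ∀ y : alternatingGroup (Fin 4), e ⟨_, hm⟩ = y →
          mkP (P⁻¹ * t * P) = ((e.symm y : img (G0 M)) :
            ProjectiveSpecialLinearGroup (Fin 2) F) := by
        intro y hy
        rw [← hy, MulEquiv.symm_apply_apply]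
      rcases h4 with h4 | h4 | h4 | h4
      · apply key 1 (by simp)
        rw [hval _ h4, map_one]; rfl
      · apply key a (by rw [hPa]; exact hIR)
        rw [hval _ h4, hA]
      · apply key b (by rw [hPb]; exact hJR)
        rw [hval _ h4, hB]
      · apply key (a * b) (by
          have : P * (a * b) * P⁻¹ = (P * a * P⁻¹) * (P * b * P⁻¹) := by group
          rw [this, hPa, hPb]; exact R.mul_mem hIR hJR)
        rw [hval _ h4, map_mul, Subgroup.coe_mul, ← hA, ← hB]; rfl)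
    (by
      intro t ht ht4
      rw [mem_G0_cjM] at ht
      have hm := (hpre _).1 ht
      have hc : ∀ n : ℕ, mkP (P⁻¹ * t * P) ^ n = (mkP P)⁻¹ * mkP t ^ n * mkP P := by
        intro n
        have : mkP (P⁻¹ * t * P) = (mkP P)⁻¹ * mkP t * ((mkP P)⁻¹)⁻¹ := by
          rw [inv_inv]; rfl
        rw [this, conj_pow, inv_inv]
      have h5 := a4_no4 (e ⟨_, hm⟩) ((pow_of_iso e hm).2 (by rw [hc, ht4]; group))
      have h6 := (pow_of_iso e hm).1 h5
      rw [hc] at h6
      have h7 : mkP t ^ 2 = mkP P * ((mkP P)⁻¹ * mkP t ^ 2 * mkP P) * (mkP P)⁻¹ := by group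
      rw [h7, h6]; group)
  exact ⟨h8, _, le_YD_of_cjM hD⟩

end Cfsg.Agent.Lib.Helper7.PGLMax
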