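import Cfsg.Agent.Lib.Helper7.PGL.Defs
import Cfsg.Agent.Lib.Helper7.PGL.BAS
import Cfsg.Agent.Lib.Helper7.PGL.PP

set_option autoImplicit false
set_option linter.unusedSimpArgs false
set_option linter.unusedSectionVars false
set_option linter.unusedVariables false

/-! Ladder PGLMAX (statement S5891), rung BOR. -/

namespace Cfsg.Agent.Lib.Helper7.PGLMax

open Matrix MatrixGroups Subgroup Cfsg.Agent.Lib.Helper46 Cfsg.Agent.Lib.Helper18.SL2
open Cfsg.Agent.Lib.Helper7 Cfsg.Agent.Lib.Helper7.PMax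

variable {F : Type*} [Field F]

/-- the conjugate by `g⁻¹` of the upper unitriangular subgroup -/
def borU (g : SpecialLinearGroup (Fin 2) F) : Subgroup (SpecialLinearGroup (Fin 2) F) where
  carrier := {s | ∃ b : F, g * s * g⁻¹ = uu b}
  mul_mem' := by
    rintro s t ⟨b, hb⟩ ⟨c, hc⟩
    refine ⟨b + c, ?_⟩
    rw [← Cfsg.Agent.Lib.Helper7.uu_mul, ← hb, ← hc]; group
  one_mem' := ⟨0, by rw [Cfsg.Agent.Lib.Helper7.uu_zero]; group⟩
  inv_mem' := by
    rintro s ⟨b, hb⟩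
    refine ⟨-b, ?_⟩
    rw [← Cfsg.Agent.Lib.Helper7.uu_inv, ← hb]; group

theorem bor_mem_borU {g s : SpecialLinearGroup (Fin 2) F} :
    s ∈ borU g ↔ ∃ b : F, g * s * g⁻¹ = uu b := Iff.rfl

theorem bor_mem_borU_of {g s : SpecialLinearGroup (Fin 2) F} (ht : tr s = 2)
    (h10 : (g * s * g⁻¹).1 1 0 = 0) : s ∈ borU g :=
  ⟨_, eq_uu_of_tr (by rw [tr_conj, ht]) h10⟩

theorem bor_tr_of_mem {g s : SpecialLinearGroup (Fin 2) F} (h : s ∈ borU g) : tr s = 2 := by
  obtain ⟨b, hb⟩ := h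
  rw [← tr_conj g s, hb, tr_uu]

theorem bor_comm {g s t : SpecialLinearGroup (Fin 2) F} (hs : s ∈ borU g) (ht : t ∈ borU g) :
    s * t = t * s := by
  obtain ⟨b, hb⟩ := hs
  obtain ⟨c, hc⟩ := ht
  have e1 : s = g⁻¹ * uu b * g := by rw [← hb]; group
  have e2 : t = g⁻¹ * uu c * g := by rw [← hc]; group
  have e3 : uu b * uu c = uu c * uu b := by
    rw [Cfsg.Agent.Lib.Helper7.uu_mul, Cfsg.Agent.Lib.Helper7.uu_mul, add_comm]
  calc s * t = g⁻¹ * (uu b * uu c) * g := by rw [e1, e2]; group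
    _ = g⁻¹ * (uu c * uu b) * g := by rw [e3]
    _ = t * s := by rw [e1, e2]; group

theorem bor_case [Fintype F] (hodd : Odd (Fintype.card F)) (hq : 3 < Fintype.card F)
    {M : Subgroup (ProjGenLinGroup (Fin 2) F)} (h : Ctx M) (hB : BorType (G0 M))
    {u : SpecialLinearGroup (Fin 2) F} (hu : u ∈ G0 M)
    (huc : u ∉ center (SpecialLinearGroup (Fin 2) F)) (hut : tr u = 2) :
    Nat.card (G0 M) = Fintype.card F * (Fintype.card F - 1) := by
  classical
  obtain ⟨g, hg⟩ := hB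
  set R : Subgroup (SpecialLinearGroup (Fin 2) F) := G0 M ⊓ borU g with hR
  have huR : u ∈ R := ⟨hu, bor_mem_borU_of hut (hg u hu)⟩
  have hR1 : ¬ R ≤ center (SpecialLinearGroup (Fin 2) F) := fun hle => huc (hle huR)
  have hR2 : R ≤ G0 M := inf_le_left
  have hinv : ∀ Δ : GL (Fin 2) F, ProjGenLinGroup.mk Δ ∈ M → ∀ s ∈ R, conjGL Δ s ∈ R := by
    intro Δ hΔ s hs
    have h1 : conjGL Δ s ∈ G0 M := conjGL_mem_G0 hΔ hs.1
    exact ⟨h1, bor_mem_borU_of (by rw [tr_conjGL, bor_tr_of_mem hs.2]) (hg _ h1)⟩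
  have hU : borU g ≤ G0 M := by
    intro n hn
    apply mem_G0_of_normalizes hq h R hR1 hR2 hinv
    intro s hs
    have e : n * s * n⁻¹ = s := by rw [bor_comm hn hs.2]; group
    rw [e]; exact hs
  have hBle : (BorS F).comap (MulAut.conj g).toMonoidHom ≤ G0 M := by
    intro n hn
    have hn' : (g * n * g⁻¹).1 1 0 = 0 := hn
    apply mem_G0_of_normalizes hq h R hR1 hR2 hinv
    intro s hs
    have h1 : n * s * n⁻¹ ∈ borU g := by
      apply bor_mem_borU_of (by rw [tr_conj, bor_tr_of_mem hs.2])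
      have hs' : g * s * g⁻¹ ∈ BorS F := hg s hs.1
      have hn'' : g * n * g⁻¹ ∈ BorS F := hn'
      have e : g * (n * s * n⁻¹) * g⁻¹ = (g * n * g⁻¹) * (g * s * g⁻¹) * (g * n * g⁻¹)⁻¹ := by group
      rw [e]
      exact (BorS F).mul_mem ((BorS F).mul_mem hn'' hs') ((BorS F).inv_mem hn'')
    exact ⟨hU h1, h1⟩
  have hEq : G0 M = (BorS F).comap (MulAut.conj g).toMonoidHom :=
    le_antisymm (fun s hs => hg s hs) hBle
  have hEq2 : (BorS F).comap (MulAut.conj g).toMonoidHom =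
      (BorS F).map (MulAut.conj g⁻¹).toMonoidHom := by
    ext s
    constructor
    · intro hs
      refine ⟨g * s * g⁻¹, hs, ?_⟩
      simp only [MulEquiv.coe_toMonoidHom, MulAut.conj_apply]
      group
    · rintro ⟨t, ht, rfl⟩
      show g * (MulAut.conj g⁻¹ t) * g⁻¹ ∈ BorS F
      have e : g * (MulAut.conj g⁻¹ t) * g⁻¹ = t := by
        simp only [MulAut.conj_apply]; group
      rw [e]; exact ht
  rw [hEq, hEq2, card_map_conj, card_BorS]

end Cfsg.Agent.Lib.Helper7.PGLMax
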