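import Cfsg.Agent.Lib.Helper7.PGL.Defs
import Cfsg.Agent.Lib.Helper50.FiniteFieldExt

set_option autoImplicit false
set_option linter.unusedSimpArgs false
set_option linter.unusedSectionVars false
set_option linter.unusedVariables false

/-! Ladder PGLMAX (statement S5891), rung EMB. -/

namespace Cfsg.Agent.Lib.Helper7.PGLMax

open Matrix MatrixGroups Subgroup Cfsg.Agent.Lib.Helper46 Cfsg.Agent.Lib.Helper18.SL2
open Cfsg.Agent.Lib.Helper7 Cfsg.Agent.Lib.Helper7.PMax

variable {F : Type*} [Field F]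

theorem emb_isSquare [Fintype F] {E : Type*} [Field E] [Fintype E] (φ : F →+* E)
    (hcard : Fintype.card E = Fintype.card F ^ 2) (d : F) : IsSquare (φ d) := by
  have h1 : Nat.card φ.fieldRange = Fintype.card F := by
    rw [← Nat.card_eq_fintype_card]
    exact (Nat.card_congr (RingEquiv.ofBijective φ.rangeRestrictField
      ⟨(RingHom.injective _), φ.rangeRestrictField_bijective.2⟩).toEquiv).symm
  exact PSub.isSquare_of_sq (F₀ := φ.fieldRange) (by rw [h1, hcard]) ⟨φ d, ⟨d, rfl⟩⟩

theorem exists_emb [Fintype F] (hodd : Odd (Fintype.card F)) (p : ℕ) [Fact p.Prime] [CharP F p] :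
    ∃ (E : Type) (_ : Field E) (_ : Fintype E) (_ : CharP E p) (φ : F →+* E)
      (j : ProjGenLinGroup (Fin 2) F →* ProjectiveSpecialLinearGroup (Fin 2) E),
      Fintype.card E = Fintype.card F ^ 2 ∧ Function.Injective j ∧
      ∀ (Δ : GL (Fin 2) F) (s : SpecialLinearGroup (Fin 2) E),
        (QuotientGroup.mk s : ProjectiveSpecialLinearGroup (Fin 2) E) = j (ProjGenLinGroup.mk Δ) →
        ∃ c : E, c ≠ 0 ∧ ∀ a b, s.1 a b = c * φ (Δ.1 a b) := by
  obtain ⟨n, hp, hn⟩ := FiniteField.card F p
  have : Fintype (GaloisField p (2 * n)) := Fintype.ofFinite _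
  have hcard : Fintype.card (GaloisField p (2 * n)) = Fintype.card F ^ 2 := by
    rw [← Nat.card_eq_fintype_card, GaloisField.card p (2 * n) (by positivity), hn, ← pow_mul,
      mul_comm]
  obtain ⟨alg, -⟩ := Cfsg.Agent.Lib.Helper50.exists_algebra_of_card_pow 2 hcard
  let φ : F →+* GaloisField p (2 * n) := algebraMap F _
  let ι := ProjGenLinGroup.map (n := Fin 2) φ
  have hι : Function.Injective ι := pgl_map_injective φ
  let τE := ProjectiveSpecialLinearGroup.toPGL (n := Fin 2) (R := GaloisField p (2 * n))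
  have hτ : Function.Injective τE := ProjectiveSpecialLinearGroup.toPGL_injective
  have hrange : ∀ x, ι x ∈ τE.range := by
    intro x
    obtain ⟨Δ, rfl⟩ := ProjGenLinGroup.mk_surjective x
    show ProjGenLinGroup.map (n := Fin 2) φ (ProjGenLinGroup.mk Δ) ∈ _
    rw [ProjGenLinGroup.map_mk]
    apply mk_mem_range_toPGL
    have h1 : ((GeneralLinearGroup.map φ Δ).det : GaloisField p (2 * n)) = φ (Δ.det : F) := by
      simp [GeneralLinearGroup.map, RingHom.map_det]
    rw [h1]
    exact emb_isSquare φ hcard _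
  let j : ProjGenLinGroup (Fin 2) F →* ProjectiveSpecialLinearGroup (Fin 2) (GaloisField p (2 * n)) :=
    (MonoidHom.ofInjective hτ).symm.toMonoidHom.comp (ι.codRestrict τE.range hrange)
  have hj : ∀ x, τE (j x) = ι x := by
    intro x
    exact MonoidHom.apply_ofInjective_symm hτ ⟨ι x, hrange x⟩
  refine ⟨GaloisField p (2 * n), inferInstance, inferInstance, inferInstance, φ, j, hcard, ?_, ?_⟩
  · intro x y hxy
    apply hι
    rw [← hj, ← hj, hxy]
  · intro Δ s hs
    have h1 : τE (QuotientGroup.mk s) = ι (ProjGenLinGroup.mk Δ) := by rw [hs, hj]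
    have h2 : ProjGenLinGroup.mk (SpecialLinearGroup.toGL s) =
        ProjGenLinGroup.mk (GeneralLinearGroup.map φ Δ) := by
      have h3 : ι (ProjGenLinGroup.mk Δ) = ProjGenLinGroup.mk (GeneralLinearGroup.map φ Δ) :=
        ProjGenLinGroup.map_mk φ Δ
      rw [← h3, ← h1]
      rfl
    rw [ProjGenLinGroup.mk_eq_mk_iff] at h2
    obtain ⟨c, hc⟩ := h2
    refine ⟨((c⁻¹ : (GaloisField p (2 * n))ˣ) : GaloisField p (2 * n)), Units.ne_zero _, ?_⟩
    intro a b
    have h4 := congrArg (fun g : GL (Fin 2) (GaloisField p (2 * n)) => g.1 a b) hc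
    have h5 : s.1 a b * (c : GaloisField p (2 * n)) = φ (Δ.1 a b) := by
      have h6 : (SpecialLinearGroup.toGL s * GeneralLinearGroup.scalar (Fin 2) c).1 a b =
          s.1 a b * (c : GaloisField p (2 * n)) := by
        simp only [Units.val_mul, SpecialLinearGroup.coe_GL_coe_matrix,
          GeneralLinearGroup.coe_scalar]
        fin_cases a <;> fin_cases b <;> simp [Matrix.mul_apply, Matrix.diagonal_apply]
      rw [← h6]
      exact h4
    rw [← h5, Units.val_inv_eq_inv_val]
    field_simp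

end Cfsg.Agent.Lib.Helper7.PGLMax
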