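import Cfsg.Agent.Lib.Helper7.PGL.Defs
import Cfsg.Agent.Lib.Helper7.PGL.BAS
import Cfsg.Agent.Lib.Helper7.PGL.EMB

set_option autoImplicit false
set_option linter.unusedSimpArgs false
set_option linter.unusedSectionVars false
set_option linter.unusedVariables false

/-! Ladder PGLMAX (statement S5891), rung DIH. -/

namespace Cfsg.Agent.Lib.Helper7.PGLMax

open Matrix MatrixGroups Subgroup Cfsg.Agent.Lib.Helper46 Cfsg.Agent.Lib.Helper18.SL2
open Cfsg.Agent.Lib.Helper7 Cfsg.Agent.Lib.Helper7.PMax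

variable {F : Type*} [Field F]

theorem dih_of_tor [Fintype F] (hodd : Odd (Fintype.card F))
    {M : Subgroup (ProjGenLinGroup (Fin 2) F)}
    {x : SpecialLinearGroup (Fin 2) F} (hx : x ∈ G0 M) (hs : tr x ^ 2 ≠ 4)
    (hinv : ∀ Δ : GL (Fin 2) F, ProjGenLinGroup.mk Δ ∈ M → (conjGL Δ x = x ∨ conjGL Δ x = x⁻¹))
    {n : ℕ} (hcard : Nat.card M = 2 * n)
    (hnc : ∃ a ∈ M, ∃ b ∈ M, a * b ≠ b * a) : Nonempty (M ≃* DihedralGroup n) := by
  obtain ⟨p, hp⟩ := CharP.exists F
  have : Fact p.Prime := ⟨CharP.char_is_prime F p⟩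
  obtain ⟨E, iE, iF, iC, φ, j, hcE, hj, hform⟩ := exists_emb hodd p
  set M' := M.map j with hM'
  have e : M ≃* M' := M.equivMapOfInjective j hj
  obtain ⟨s₀, hs₀⟩ := QuotientGroup.mk_surjective (j (ProjGenLinGroup.mk (SpecialLinearGroup.toGL x)))
  obtain ⟨c₀, hc₀, hf₀⟩ := hform (SpecialLinearGroup.toGL x) s₀ hs₀
  set X : Matrix (Fin 2) (Fin 2) E := φ.mapMatrix x.1 with hX
  set X' : Matrix (Fin 2) (Fin 2) E := φ.mapMatrix (x⁻¹).1 with hX'
  have hs₀X : s₀.1 = c₀ • X := by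
    ext a b
    rw [hf₀]; rfl
  have hXX' : X * X' = 1 := by
    rw [hX, hX', ← map_mul]
    have : x.1 * (x⁻¹).1 = 1 := by
      have := congrArg Subtype.val (mul_inv_cancel x)
      exact this
    rw [this, map_one]
  have hdetX : X.det = 1 := by
    rw [hX, ← RingHom.map_det, x.2, map_one]
  have hc₀2 : c₀ ^ 2 = 1 := by
    have := s₀.2
    rw [hs₀X, Matrix.det_smul, hdetX] at this
    simpa using this
  have hs₀inv : (s₀⁻¹).1 = c₀ • X' := by
    have h1 : s₀.1 * (c₀ • X') = 1 := by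
      rw [hs₀X, Matrix.smul_mul, Matrix.mul_smul, hXX', smul_smul, ← sq, hc₀2, one_smul]
    have h2 : (s₀⁻¹).1 * s₀.1 = 1 := congrArg Subtype.val (inv_mul_cancel s₀)
    calc (s₀⁻¹).1 = (s₀⁻¹).1 * (s₀.1 * (c₀ • X')) := by rw [h1, mul_one]
      _ = c₀ • X' := by rw [← mul_assoc, h2, one_mul]
  have htr₀ : tr s₀ = c₀ * φ (tr x) := by
    simp only [tr]
    rw [hf₀, hf₀, map_add, mul_add]; rfl
  have hs₀s : tr s₀ ^ 2 ≠ 4 := by
    rw [htr₀, mul_pow, hc₀2, one_mul, ← map_pow]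
    intro h
    apply hs
    apply φ.injective
    rw [h]; exact (map_ofNat φ 4).symm
  have hTor : Tor (pre M') := by
    refine ⟨s₀, ?_, hs₀s, ?_⟩
    · rw [mem_pre]
      have : (QuotientGroup.mk s₀ : ProjectiveSpecialLinearGroup (Fin 2) E) = _ := hs₀
      rw [this]
      exact ⟨_, hx, rfl⟩
    · intro s hs'
      obtain ⟨m, hm, hms⟩ := mem_pre.1 hs'
      obtain ⟨Δ, rfl⟩ := ProjGenLinGroup.mk_surjective m
      obtain ⟨c, hc0, hc⟩ := hform Δ s hms.symm
      set A : Matrix (Fin 2) (Fin 2) E := φ.mapMatrix Δ.1 with hA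
      have hsA : s.1 = c • A := by
        ext a b
        rw [hc]; rfl
      have hG := toGL_conjGL Δ x
      rcases hinv Δ hm with h1 | h1
      · left
        rw [h1] at hG
        have h2 : Δ * SpecialLinearGroup.toGL x = SpecialLinearGroup.toGL x * Δ := by
          conv_lhs => rw [hG]
          group
        have h3 : Δ.1 * x.1 = x.1 * Δ.1 := congrArg Units.val h2
        have h4 : A * X = X * A := by rw [hA, hX, ← map_mul, h3, map_mul]
        apply Subtype.ext
        show s.1 * s₀.1 = s₀.1 * s.1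
        rw [hsA, hs₀X, Matrix.smul_mul, Matrix.mul_smul, Matrix.smul_mul, Matrix.mul_smul, h4,
          smul_comm]
      · right
        rw [h1] at hG
        have h2 : Δ * SpecialLinearGroup.toGL x = SpecialLinearGroup.toGL x⁻¹ * Δ := by
          have h5 : SpecialLinearGroup.toGL x = Δ * SpecialLinearGroup.toGL x⁻¹ * Δ⁻¹ := by
            rw [hG]; group
          have h6 : SpecialLinearGroup.toGL x⁻¹ = (SpecialLinearGroup.toGL x)⁻¹ := map_inv _ _
          have h7 : SpecialLinearGroup.toGL x⁻¹ = Δ * SpecialLinearGroup.toGL x * Δ⁻¹ := by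
            rw [h6]
            conv_lhs => rw [h5]
            rw [h6]; group
          rw [h7]; group
        have h3 : Δ.1 * x.1 = (x⁻¹).1 * Δ.1 := congrArg Units.val h2
        have h4 : A * X = X' * A := by rw [hA, hX, hX', ← map_mul, h3, map_mul]
        rw [mul_inv_eq_iff_eq_mul]
        apply Subtype.ext
        show s.1 * s₀.1 = (s₀⁻¹).1 * s.1
        rw [hsA, hs₀X, hs₀inv, Matrix.smul_mul, Matrix.mul_smul, Matrix.smul_mul, Matrix.mul_smul,
          h4, smul_comm]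
  obtain ⟨k, -, h1 | ⟨h1, ⟨f⟩⟩⟩ := tor_struct M' hTor
  · exfalso
    obtain ⟨a, ha, b, hb, hab⟩ := hnc
    have : IsCyclic M' := h1.1
    have h2 := IsCyclic.commGroup.mul_comm (e ⟨a, ha⟩) (e ⟨b, hb⟩)
    rw [← map_mul, ← map_mul] at h2
    exact hab (congrArg Subtype.val (e.injective h2))
  · have hk : k = n := by
      have := Nat.card_congr e.toEquiv
      omega
    subst hk
    exact ⟨e.trans f⟩

end Cfsg.Agent.Lib.Helper7.PGLMax
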