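import Cfsg.Agent.Lib.Helper7.PGL.Defs
import Cfsg.Agent.Lib.Helper7.PGL.BAS

set_option autoImplicit false
set_option linter.unusedSimpArgs false
set_option linter.unusedSectionVars false
set_option linter.unusedVariables false

/-! Ladder PGLMAX (statement S5891), rung MAXSUB. -/

namespace Cfsg.Agent.Lib.Helper7.PGLMax

open Matrix MatrixGroups Subgroup Cfsg.Agent.Lib.Helper46 Cfsg.Agent.Lib.Helper18.SL2
open Cfsg.Agent.Lib.Helper7 Cfsg.Agent.Lib.Helper7.PMax

variable {F : Type*} [Field F]

theorem maxsub_exists_not_mem [Fintype F] (hodd : Odd (Fintype.card F))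
    {M : Subgroup (ProjGenLinGroup (Fin 2) F)} (h : Ctx M) :
    ∃ t ∈ M, t ∉ (ProjGenLinGroup.mk.comp
      (SpecialLinearGroup.toGL (n := Fin 2) (R := F))).range := by
  have h2 : (2 : F) ≠ 0 := PSub.two_ne_zero_of_odd_card hodd
  set L := (ProjGenLinGroup.mk.comp (SpecialLinearGroup.toGL (n := Fin 2) (R := F))).range with hL
  have hLt : L ≠ ⊤ := by
    intro ht
    have hc : ringChar F ≠ 2 := by
      intro hc
      apply h2
      have := ringChar.spec F 2
      rw [hc] at this
      exact_mod_cast this.2 (dvd_refl 2)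
    obtain ⟨a, ha⟩ := FiniteField.exists_nonsquare hc
    have ha0 : a ≠ 0 := by
      rintro rfl
      exact ha (IsSquare.zero)
    let Δ : GL (Fin 2) F := GeneralLinearGroup.mkOfDetNeZero !![a, 0; 0, 1] (by
      simp [Matrix.det_fin_two, ha0])
    have h1 : ProjGenLinGroup.mk Δ ∈ L := ht ▸ mem_top _
    rw [hL, mk_mem_range_iff_isSquare] at h1
    apply ha
    have h3 : (Δ.det : F) = a := by
      simp [Δ, GeneralLinearGroup.mkOfDetNeZero, Matrix.det_fin_two]
    rwa [h3] at h1
  by_contra hcon
  push Not at hcon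
  have hML : M ≤ L := hcon
  rcases eq_or_lt_of_le hML with he | hlt
  · exact h.notle he.ge
  · exact hLt (h.coatom.2 _ hlt)

theorem maxsub_equiv (L : Subfield F) (D : GL (Fin 2) F) :
    Nonempty (YD L D ≃* ProjGenLinGroup (Fin 2) L) := by
  have e1 : YD L D ≃* (YD L D).map (MulAut.conj (ProjGenLinGroup.mk D)).toMonoidHom :=
    (YD L D).equivMapOfInjective _ (MulAut.conj (ProjGenLinGroup.mk D)).injective
  have h : (YD L D).map (MulAut.conj (ProjGenLinGroup.mk D)).toMonoidHom =
      (ProjGenLinGroup.map (n := Fin 2) L.subtype).range := by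
    rw [YD]
    exact Subgroup.map_comap_eq_self_of_surjective
      (MulAut.conj (ProjGenLinGroup.mk D)).surjective _
  have e2 : ProjGenLinGroup (Fin 2) L ≃* (ProjGenLinGroup.map (n := Fin 2) L.subtype).range :=
    MonoidHom.ofInjective (pgl_map_injective _)
  exact ⟨(e1.trans (MulEquiv.subgroupCongr h)).trans e2.symm⟩

theorem maxsub [Fintype F] (hodd : Odd (Fintype.card F))
    {M : Subgroup (ProjGenLinGroup (Fin 2) F)} (h : Ctx M) {K : Subfield F} (hK : K ≠ ⊤)
    (D : GL (Fin 2) F) (hle : M ≤ YD K D) : Goal5 F M := by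
  obtain ⟨L, l, hl, hKL, hL⟩ := exists_prime_subfield K hK
  rw [Nat.card_eq_fintype_card (α := F)] at hL
  have h1 : M ≤ YD L D := fun x hx => range_map_mono hKL (hle hx)
  have hne : YD L D ≠ ⊤ := by
    intro htop
    apply subM_ne_top hl.two_le hL D
    have : subM L D = (YD L D).comap ProjectiveSpecialLinearGroup.toPGL := rfl
    rw [this, htop, comap_top]
  have h3 : M = YD L D := by
    by_contra hne'
    exact hne (h.coatom.2 _ (lt_of_le_of_ne h1 hne'))
  have hlodd : Odd l := by
    rcases hl.eq_two_or_odd' with rfl | ho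
    · exfalso
      obtain ⟨t, htM, htL⟩ := maxsub_exists_not_mem hodd h
      apply htL
      obtain ⟨Δ, rfl⟩ := ProjGenLinGroup.mk_surjective t
      have ht := h1 htM
      rw [mem_YD, ← map_inv, ← map_mul, ← map_mul] at ht
      obtain ⟨x, hx⟩ := ht
      obtain ⟨g₀, rfl⟩ := ProjGenLinGroup.mk_surjective x
      rw [ProjGenLinGroup.map_mk] at hx
      have h5 : ProjGenLinGroup.mk (D * Δ * D⁻¹) ∈ (ProjGenLinGroup.mk.comp
          (SpecialLinearGroup.toGL (n := Fin 2) (R := F))).range := by
        rw [← hx, mk_mem_range_iff_isSquare]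
        have : ((GeneralLinearGroup.map (n := Fin 2) L.subtype g₀).det : F) =
            ((g₀.det : L) : F) := by
          have := (L.subtype).map_det g₀.1
          exact this.symm
        rw [this]
        exact PSub.isSquare_of_sq hL.symm _
      rw [mk_mem_range_iff_isSquare] at h5 ⊢
      have h6 : ((D * Δ * D⁻¹).det : F) = (Δ.det : F) := by
        rw [map_mul, map_mul, map_inv, mul_comm, ← mul_assoc, inv_mul_cancel, one_mul]
      rwa [h6] at h5
    · exact ho
  have e : Shrink.{0} L ≃+* L := Shrink.ringEquiv.{0} L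
  have : Fintype (Shrink.{0} L) := Fintype.ofFinite _
  have hcard : Fintype.card (Shrink.{0} L) = Nat.card L := by
    rw [← Nat.card_eq_fintype_card]
    exact Nat.card_congr e.toEquiv
  obtain ⟨f⟩ := maxsub_equiv L D
  exact ⟨Shrink.{0} L, inferInstance, inferInstance, l, hl, hlodd, by rw [hcard, hL],
    ⟨((MulEquiv.subgroupCongr h3).trans f).trans (pglEquiv e.symm)⟩⟩

end Cfsg.Agent.Lib.Helper7.PGLMax
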