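import Cfsg.Agent.Lib.Helper7.PGL.Defs
import Cfsg.Agent.Lib.Helper7.PGL.EMB

set_option autoImplicit false
set_option linter.unusedSimpArgs false
set_option linter.unusedSectionVars false
set_option linter.unusedVariables false

/-! Ladder PGLMAX (statement S5891), rung NUM. -/

namespace Cfsg.Agent.Lib.Helper7.PGLMax

open Matrix MatrixGroups Subgroup Cfsg.Agent.Lib.Helper46 Cfsg.Agent.Lib.Helper18.SL2
open Cfsg.Agent.Lib.Helper7 Cfsg.Agent.Lib.Helper7.PMax

variable {F : Type*} [Field F]

/-- the characteristic from the order -/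
theorem num_char {E : Type*} [Field E] [Fintype E] (p : ℕ) [Fact p.Prime] [CharP E p]
    {q₀ m : ℕ} (hq₀ : q₀.Prime) (h : Fintype.card E = q₀ ^ m) : p = q₀ := by
  obtain ⟨n, hp, hn⟩ := FiniteField.card E p
  have h1 : p ∣ q₀ ^ m := by
    rw [← h, hn]
    exact dvd_pow_self _ n.ne_zero
  exact (Nat.prime_dvd_prime_iff_eq hp hq₀).1 (hp.dvd_of_dvd_pow h1)

/-- transport of a pair `H ≤ M` along an injective homomorphism -/
theorem num_transport {P P' S : Type*} [Group P] [Group P'] [Group S] (j : P →* P')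
    (hj : Function.Injective j) {M H : Subgroup P} (hH : H ≤ M) (e : H ≃* S) :
    H.map j ≤ M.map j ∧ Nonempty (H.map j ≃* S) ∧ Nonempty (M ≃* M.map j) ∧
      Nat.card (M.map j) = Nat.card M :=
  ⟨Subgroup.map_mono hH, ⟨(H.equivMapOfInjective j hj).symm.trans e⟩,
    ⟨M.equivMapOfInjective j hj⟩, Subgroup.card_map_of_injective hj⟩

theorem num_cube_bound {q₀ N : ℕ} (h : q₀ * (q₀ ^ 2 - 1) = N) (hN : N ≤ 240) : q₀ ≤ 6 := by
  by_contra hcon
  push Not at hcon
  have h1 : 7 * 48 ≤ q₀ * (q₀ ^ 2 - 1) := by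
    apply Nat.mul_le_mul hcon
    have : 49 ≤ q₀ ^ 2 := by nlinarith
    omega
  omega

theorem no_48 [Fintype F] (hodd : Odd (Fintype.card F))
    {M H : Subgroup (ProjGenLinGroup (Fin 2) F)} (hcard : Nat.card M = 48) (hH : H ≤ M)
    (e : H ≃* Equiv.Perm (Fin 4)) : False := by
  classical
  obtain ⟨p, hp⟩ := CharP.exists F
  have : Fact p.Prime := ⟨CharP.char_is_prime F p⟩
  obtain ⟨E, _, _, _, φ, j, hE, hj, -⟩ := exists_emb hodd p
  obtain ⟨hHM, ⟨e'⟩, -, hc⟩ := num_transport j hj hH e
  have h2 : (2 : E) ≠ 0 := PSub.two_ne_zero_of_odd_card (by rw [hE]; exact hodd.pow)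
  rw [hcard] at hc
  rcases psl_dickson_num p (M.map j) with h | h | h | ⟨q₀, m, h3, -, h⟩
  · exact S4_not_meta (transfer_meta hHM e' h.2.1)
  · exact S4_not_sq (transfer_sq hHM e' h.1)
  · omega
  · rw [zc_of_two_ne h2, hc] at h
    rcases h with h | h
    · have hb := num_cube_bound h.symm (by norm_num)
      interval_cases q₀ <;> omega
    · have hb := num_cube_bound h.symm (by norm_num)
      interval_cases q₀ <;> omega

theorem char_five_of_120 [Fintype F] (hodd : Odd (Fintype.card F)) (p : ℕ) [Fact p.Prime]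
    [CharP F p]
    {M H : Subgroup (ProjGenLinGroup (Fin 2) F)} (hcard : Nat.card M = 120) (hH : H ≤ M)
    (e : H ≃* alternatingGroup (Fin 5)) : p = 5 := by
  classical
  obtain ⟨E, _, _, _, φ, j, hE, hj, -⟩ := exists_emb hodd p
  obtain ⟨hHM, ⟨e'⟩, -, hc⟩ := num_transport j hj hH e
  have h2 : (2 : E) ≠ 0 := PSub.two_ne_zero_of_odd_card (by rw [hE]; exact hodd.pow)
  rw [hcard] at hc
  rcases psl_dickson_num p (M.map j) with h | h | h | ⟨q₀, m, h3, hm, h⟩
  · exact absurd (transfer_meta hHM e' h.2.1) A5_not_meta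
  · exact absurd (transfer_sq hHM e' h.1) A5_not_sq
  · omega
  · rw [zc_of_two_ne h2, hc] at h
    have h5 : q₀ = 5 := by
      rcases h with h | h
      · have hb := num_cube_bound h.symm (by norm_num)
        interval_cases q₀ <;> omega
      · have hb := num_cube_bound h.symm (by norm_num)
        interval_cases q₀ <;> omega
    rw [h5] at hm
    exact num_char p (by norm_num) hm

theorem s4_of_24 [Fintype F] (hodd : Odd (Fintype.card F)) (p : ℕ) [Fact p.Prime] [CharP F p]
    (hp3 : p ≠ 3)
    {M H : Subgroup (ProjGenLinGroup (Fin 2) F)} (hcard : Nat.card M = 24) (hH : H ≤ M)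
    (e : H ≃* alternatingGroup (Fin 4)) : Nonempty (M ≃* Equiv.Perm (Fin 4)) := by
  classical
  obtain ⟨E, _, _, _, φ, j, hE, hj, -⟩ := exists_emb hodd p
  obtain ⟨hHM, ⟨e'⟩, ⟨eM⟩, hc⟩ := num_transport j hj hH e
  have h2 : (2 : E) ≠ 0 := PSub.two_ne_zero_of_odd_card (by rw [hE]; exact hodd.pow)
  have h2F : (2 : F) ≠ 0 := PSub.two_ne_zero_of_odd_card hodd
  have hpodd : Odd p := by
    rcases (Fact.out : p.Prime).eq_two_or_odd' with h | h
    · exfalso
      apply h2F
      have := CharP.cast_eq_zero F p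
      rw [h] at this
      exact_mod_cast this
    · exact h
  rw [hcard] at hc
  set M' := M.map j with hM'
  rcases dickson p (pre M') (center_le_pre M') with hB | hT | ⟨hX, -⟩ | ⟨K, D, hIn, hK⟩
  · exfalso
    have hB' : BorType (pre M') := hB
    obtain ⟨g, hg⟩ := hB'.commutator
    have hpow : ∀ a ∈ M', ∀ b ∈ M', (a * b * a⁻¹ * b⁻¹) ^ p = 1 := by
      apply forall_mk
      intro x hx
      apply forall_mk
      intro y hy
      obtain ⟨c, he⟩ := hg x hx y hy
      have h1 : (x * y * x⁻¹ * y⁻¹) ^ p = 1 := by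
        have e1 : (g⁻¹ * uu c * g) ^ p = g⁻¹ * uu c ^ p * g := by
          have := conj_pow (a := g⁻¹) (b := uu c) (i := p)
          simpa using this
        rw [he, e1, uu_pow, CharP.cast_eq_zero, zero_mul, Cfsg.Agent.Lib.Helper7.uu_zero]
        group
      have := congrArg (fun w => (QuotientGroup.mk w : ProjectiveSpecialLinearGroup (Fin 2) E)) h1
      simpa using this
    exact A4_not_pow hpodd (transfer_pow hHM e' p hpow)
  · exfalso
    have hsq : ∀ a ∈ M', ∀ b ∈ M', Commute (a ^ 2) (b ^ 2) := by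
      apply forall_mk
      intro x hx
      apply forall_mk
      intro y hy
      exact (Tor.sq_comm hT x hx y hy).map
        (QuotientGroup.mk' (center (SpecialLinearGroup (Fin 2) E)))
    exact A4_not_sq (transfer_sq hHM e' hsq)
  · rcases exc_recog hX with ⟨⟨f⟩⟩ | ⟨⟨f⟩⟩ | ⟨⟨f⟩⟩
    · exfalso
      have := Nat.card_congr f.toEquiv
      rw [hc, Nat.card_eq_fintype_card] at this
      have h12 : Fintype.card (alternatingGroup (Fin 4)) = 12 := by decide
      omega
    · exact ⟨eM.trans f⟩
    · exfalso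
      have := Nat.card_congr f.toEquiv
      rw [hc, Nat.card_eq_fintype_card] at this
      have h60 : Fintype.card (alternatingGroup (Fin 5)) = 60 := by decide
      omega
  · exfalso
    have hEK : Fintype.card E = Nat.card K ^ Module.finrank K E := by
      rw [← Module.natCard_eq_pow_finrank, Nat.card_eq_fintype_card]
    have hk3 : Nat.card K = 3 := by
      rcases hIn.equiv M' (fun g => Iff.rfl) with ⟨⟨f⟩⟩ | ⟨⟨f⟩⟩
      · have h := card_of_equiv_psl f
        rw [zc_of_two_ne h2, hc] at h
        have hb := num_cube_bound h.symm (by norm_num)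
        generalize Nat.card K = k at *
        interval_cases k <;> omega
      · have h := card_of_equiv_pgl f
        rw [hc] at h
        have hb := num_cube_bound h.symm (by norm_num)
        generalize Nat.card K = k at *
        interval_cases k <;> omega
    rw [hk3] at hEK
    exact hp3 (num_char p (by norm_num) hEK)

end Cfsg.Agent.Lib.Helper7.PGLMax
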