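import Cfsg.Agent.Lib.Helper7.PGL.Defs
import Cfsg.Agent.Lib.Helper7.PGL.BAS
import Cfsg.Agent.Lib.Helper7.PGL.PP

set_option autoImplicit false
set_option linter.unusedSimpArgs false
set_option linter.unusedSectionVars false
set_option linter.unusedVariables false

/-! Ladder PGLMAX (statement S5891), rung SMALL. -/

namespace Cfsg.Agent.Lib.Helper7.PGLMax

open Matrix MatrixGroups Subgroup Cfsg.Agent.Lib.Helper46 Cfsg.Agent.Lib.Helper18.SL2
open Cfsg.Agent.Lib.Helper7 Cfsg.Agent.Lib.Helper7.PMax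

variable {F : Type*} [Field F]

local notation "mkP" => (QuotientGroup.mk : SpecialLinearGroup (Fin 2) F →
  ProjectiveSpecialLinearGroup (Fin 2) F)

theorem small_exists_not_mem {G : Type*} [Group G] [Finite G] [DecidableEq G] (N : Subgroup G)
    (S : Finset G) (h : S.card < Nat.card N) : ∃ x ∈ N, x ∉ S := by
  by_contra hcon
  push Not at hcon
  have h1 : (N : Set G) ⊆ (S : Set G) := fun x hx => hcon x hx
  have h2 := Set.ncard_le_ncard h1 (Finset.finite_toSet S)
  rw [Set.ncard_coe_finset] at h2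
  have h3 : Nat.card N = (N : Set G).ncard := rfl
  omega

theorem small_tr (h2 : (2 : F) ≠ 0) {s : SpecialLinearGroup (Fin 2) F} (h4 : s ^ 4 = 1)
    (hs : s ∉ center (SpecialLinearGroup (Fin 2) F)) : tr s = 0 := by
  have h1 : mkP s ≠ 1 := fun h => hs ((QuotientGroup.eq_one_iff s).1 h)
  have h44 : mkP s ^ 4 = 1 := by
    have : mkP (s ^ 4) = 1 := by rw [h4]; rfl
    exact this
  by_cases hsq : mkP s ^ 2 = 1
  · exact tr_of_order2 h1 hsq
  · exfalso
    have ht := tr_of_order4 hsq h44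
    have hm := mat_pow_four s
    rw [← Matrix.SpecialLinearGroup.coe_pow, h4, ht] at hm
    have := congrFun (congrFun hm 0) 0
    simp at this
    apply h2
    linear_combination this

theorem small_card [Fintype F] (hodd : Odd (Fintype.card F)) (hq : 3 < Fintype.card F)
    {M : Subgroup (ProjGenLinGroup (Fin 2) F)} (h : Ctx M)
    (hexp : ∀ s ∈ G0 M, s ^ 4 = 1) : 8 ∣ Nat.card (G0 M) := by
  have : Fact (Nat.Prime 2) := ⟨Nat.prime_two⟩
  have : Finite (ProjGenLinGroup (Fin 2) F) :=
    Finite.of_surjective _ (ProjGenLinGroup.mk_surjective (n := Fin 2) (R := F))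
  have hN : IsPGroup 2 (G0 M) := by
    intro g
    refine ⟨2, ?_⟩
    apply Subtype.ext
    have := hexp g.1 g.2
    simpa using this
  obtain ⟨k, hk⟩ := IsPGroup.iff_card.1 hN
  have hM : IsPGroup 2 M := IsPGroup.of_card (n := k) (by rw [card_eq hodd h, hk])
  obtain ⟨Q, hQ⟩ := hM.exists_le_sylow
  have hQt : (Q : Subgroup (ProjGenLinGroup (Fin 2) F)) ≠ ⊤ := by
    intro ht
    obtain ⟨m, hm⟩ := IsPGroup.iff_card.1 Q.2
    rw [ht, Subgroup.card_top, card_PGL] at hm
    have h1 : Fintype.card F ∣ 2 ^ m := ⟨_, hm.symm⟩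
    have h2 : Nat.Coprime (Fintype.card F) (2 ^ m) :=
      Nat.Coprime.pow_right m (Nat.coprime_two_right.2 hodd)
    have := Nat.Coprime.eq_one_of_dvd h2 h1
    omega
  have hMQ : M = Q := by
    by_contra hne
    exact hQt (h.coatom.2 _ (lt_of_le_of_ne hQ hne))
  have h8 : 2 ^ 3 ∣ Nat.card (ProjGenLinGroup (Fin 2) F) := by
    rw [card_PGL]
    exact Dvd.dvd.mul_left (Nat.eight_dvd_sq_sub_one_of_odd hodd) _
  have := Q.pow_dvd_card_of_pow_dvd_card h8
  rw [← card_eq hodd h, hMQ]
  exact this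

theorem small_case [Fintype F] (hodd : Odd (Fintype.card F)) (hq : 3 < Fintype.card F)
    {M : Subgroup (ProjGenLinGroup (Fin 2) F)} (h : Ctx M)
    (hexp : ∀ s ∈ G0 M, s ^ 4 = 1) : False := by
  classical
  have h2 : (2 : F) ≠ 0 := PSub.two_ne_zero_of_odd_card hodd
  have h8 := small_card hodd hq h hexp
  have hpos : 0 < Nat.card (G0 M) := Nat.card_pos
  have h8' : 8 ≤ Nat.card (G0 M) := Nat.le_of_dvd hpos h8
  have hcen : ∀ z : SpecialLinearGroup (Fin 2) F, z ∈ center (SpecialLinearGroup (Fin 2) F) →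
      z = 1 ∨ z = negOne := fun z hz =>
    Cfsg.Agent.Lib.Helper46.eq_one_or_negOne_of_mem_center z hz
  have hnc : ∀ x : SpecialLinearGroup (Fin 2) F, negOne * x = x * negOne := fun x =>
    ((mem_center_iff.1 negOne_mem_center) x).symm
  have hnn : (negOne : SpecialLinearGroup (Fin 2) F) * negOne = 1 :=
    Cfsg.Agent.Lib.Helper47.negOne_mul_negOne
  -- choice of i
  obtain ⟨i, hiN, hi⟩ := small_exists_not_mem (G0 M)
    ({1, negOne} : Finset (SpecialLinearGroup (Fin 2) F))
    (lt_of_le_of_lt Finset.card_le_two (by omega))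
  simp only [Finset.mem_insert, Finset.mem_singleton, not_or] at hi
  obtain ⟨j, hjN, hj⟩ := small_exists_not_mem (G0 M)
    ({1, negOne, i, negOne * i} : Finset (SpecialLinearGroup (Fin 2) F))
    (lt_of_le_of_lt Finset.card_le_four (by omega))
  simp only [Finset.mem_insert, Finset.mem_singleton, not_or] at hj
  have hic : i ∉ center (SpecialLinearGroup (Fin 2) F) := fun hc => by
    rcases hcen i hc with h | h
    · exact hi.1 h
    · exact hi.2 h
  have hjc : j ∉ center (SpecialLinearGroup (Fin 2) F) := fun hc => by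
    rcases hcen j hc with h | h
    · exact hj.1 h
    · exact hj.2.1 h
  have ti : tr i = 0 := small_tr h2 (hexp i hiN) hic
  have tj : tr j = 0 := small_tr h2 (hexp j hjN) hjc
  have hii : i * i = negOne := sq_of_tr_zero i ti
  have hijN : i * j ∈ G0 M := mul_mem hiN hjN
  have hijc : i * j ∉ center (SpecialLinearGroup (Fin 2) F) := fun hc => by
    rcases hcen _ hc with h | h
    · apply hj.2.2.2
      have : i * (negOne * i) = 1 := by rw [hnc, ← mul_assoc, hii, hnn]
      exact mul_left_cancel (h.trans this.symm)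
    · apply hj.2.2.1
      exact mul_left_cancel (h.trans hii.symm)
  have tij : tr (i * j) = 0 := small_tr h2 (hexp _ hijN) hijc
  obtain ⟨P, u, v, huv, hPi, hPj⟩ := conj_frame h2 ti tj tij
  have hPij : P * (i * j) * P⁻¹ = qK huv := by
    rw [← qI_mul_qJ, ← hPi, ← hPj]; group
  -- every element is central times one of the four
  have key : ∀ s ∈ G0 M, s ∈ center (SpecialLinearGroup (Fin 2) F) ∨
      s * i ∈ center (SpecialLinearGroup (Fin 2) F) ∨
      s * j ∈ center (SpecialLinearGroup (Fin 2) F) ∨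
      s * (i * j) ∈ center (SpecialLinearGroup (Fin 2) F) := by
    intro s hs
    by_contra hcon
    push Not at hcon
    obtain ⟨c0, c1, c2, c3⟩ := hcon
    have t0 : tr s = 0 := small_tr h2 (hexp s hs) c0
    have t1 : tr (s * i) = 0 := small_tr h2 (hexp _ (mul_mem hs hiN)) c1
    have t2 : tr (s * j) = 0 := small_tr h2 (hexp _ (mul_mem hs hjN)) c2
    have t3 : tr (s * (i * j)) = 0 := small_tr h2 (hexp _ (mul_mem hs hijN)) c3
    obtain ⟨α, β, γ, δ, hn, -, e0, e1, e2, e3⟩ := exists_qq huv h2 (P * s * P⁻¹)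
    have f1 : P * s * P⁻¹ * qI huv = P * (s * i) * P⁻¹ := by rw [← hPi]; group
    have f2 : P * s * P⁻¹ * qJ huv = P * (s * j) * P⁻¹ := by rw [← hPj]; group
    have f3 : P * s * P⁻¹ * qK huv = P * (s * (i * j)) * P⁻¹ := by rw [← hPij]; group
    rw [tr_conj, t0] at e0
    rw [f1, tr_conj, t1] at e1
    rw [f2, tr_conj, t2] at e2
    rw [f3, tr_conj, t3] at e3
    rw [e0, e1, e2, e3] at hn
    simp at hn
  -- the normalising element
  set n := P⁻¹ * qX huv h2 * P with hn
  have ni : n * i * n⁻¹ = j := by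
    have h1 : i = P⁻¹ * qI huv * P := by rw [← hPi]; group
    have h3 : j = P⁻¹ * qJ huv * P := by rw [← hPj]; group
    have h4 : n * i = j * n := by
      rw [hn, h1, h3]
      have : P⁻¹ * qX huv h2 * P * (P⁻¹ * qI huv * P) = P⁻¹ * (qX huv h2 * qI huv) * P := by group
      rw [this, qX_mul_qI]; group
    rw [h4, mul_inv_cancel_right]
  have nj : n * j * n⁻¹ = i * j := by
    have h1 : i * j = P⁻¹ * qK huv * P := by rw [← hPij]; group
    have h3 : j = P⁻¹ * qJ huv * P := by rw [← hPj]; group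
    have h4 : n * j = (i * j) * n := by
      rw [h1, hn, h3]
      have : P⁻¹ * qX huv h2 * P * (P⁻¹ * qJ huv * P) = P⁻¹ * (qX huv h2 * qJ huv) * P := by group
      rw [this, qX_mul_qJ]; group
    rw [h4, mul_inv_cancel_right]
  have nij : n * (i * j) * n⁻¹ = j * (i * j) := by
    have : n * (i * j) * n⁻¹ = (n * i * n⁻¹) * (n * j * n⁻¹) := by group
    rw [this, ni, nj]
  have aux : ∀ s x : SpecialLinearGroup (Fin 2) F, s * x ∈ center (SpecialLinearGroup (Fin 2) F) →
      n * x * n⁻¹ ∈ G0 M → n * s * n⁻¹ ∈ G0 M := by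
    intro s x hz hx
    have h1 : n * s * n⁻¹ = (s * x) * (n * x * n⁻¹)⁻¹ := by
      have hc := (mem_center_iff.1 hz) n
      have : n * s * n⁻¹ = n * (s * x) * n⁻¹ * (n * x * n⁻¹)⁻¹ := by group
      rw [this, hc, mul_inv_cancel_right]
    rw [h1]
    exact mul_mem (center_le_G0 M hz) (inv_mem hx)
  have hnorm : ∀ s ∈ G0 M, n * s * n⁻¹ ∈ G0 M := by
    intro s hs
    rcases key s hs with hz | hz | hz | hz
    · exact aux s 1 (by simpa using hz) (by simp)
    · exact aux s i hz (by rw [ni]; exact hjN)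
    · exact aux s j hz (by rw [nj]; exact hijN)
    · exact aux s (i * j) hz (by rw [nij]; exact mul_mem hjN hijN)
  have hnN : n ∈ G0 M := mem_G0_of_normalizes hq h (G0 M) (fun hle => hic (hle hiN)) le_rfl
    (fun Δ hΔ s hs => conjGL_mem_G0 hΔ hs) hnorm
  have hn4 := hexp n hnN
  have hX4 : qX huv h2 ^ 4 = 1 := by
    have h1 : qX huv h2 = P * n * P⁻¹ := by rw [hn]; group
    rw [h1, conj_pow, hn4]; group
  have h5 : mkP (qX huv h2) ^ 4 = 1 := by
    have : mkP (qX huv h2 ^ 4) = 1 := by rw [hX4]; rfl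
    exact this
  have h6 := orderOf_dvd_of_pow_eq_one h5
  rw [orderOf_mk_qX] at h6
  omega

end Cfsg.Agent.Lib.Helper7.PGLMax
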