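import Cfsg.Agent.Lib.Helper7.PGL.Defs
import Cfsg.Agent.Lib.Helper7.PGL.BAS
import Cfsg.Agent.Lib.Helper7.PSL2Emb
import Cfsg.Agent.Lib.Helper7.SL2PAct2

set_option autoImplicit false
set_option linter.unusedSimpArgs false
set_option linter.unusedSectionVars false
set_option linter.unusedVariables false

/-! Ladder PGLMAX (statement S5891), rung SUB. -/

namespace Cfsg.Agent.Lib.Helper7.PGLMax

open Matrix MatrixGroups Subgroup Cfsg.Agent.Lib.Helper46 Cfsg.Agent.Lib.Helper18.SL2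
open Cfsg.Agent.Lib.Helper7 Cfsg.Agent.Lib.Helper7.PMax

variable {F : Type*} [Field F]

theorem sub_tr_two (h2 : (2 : F) ≠ 0) {K : Subfield F} {D : GL (Fin 2) F}
    {g : SpecialLinearGroup (Fin 2) F} (hg : g ∈ pre (subM K D)) (ht : tr g = 2) :
    ∀ i j, (conjGL D⁻¹ g).1 i j ∈ K := by
  rw [mem_pre_subM, Phi_apply] at hg
  have hX : D * SpecialLinearGroup.toGL g * D⁻¹ = SpecialLinearGroup.toGL (conjGL D⁻¹ g) := by
    rw [toGL_conjGL, inv_inv]
  rw [hX, PSub.mk_mem_range_iff] at hg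
  obtain ⟨c, hc, h⟩ := hg
  have ht' : tr (conjGL D⁻¹ g) = 2 := by rw [tr_conjGL, ht]
  have h' : ∀ i j, (conjGL D⁻¹ g).1 i j * c ∈ K := h
  have hcK : c ∈ K := by
    have h3 : (2 : F) * c ∈ K := by
      have := K.add_mem (h' 0 0) (h' 1 1)
      rw [← add_mul] at this
      have e : (conjGL D⁻¹ g).1 0 0 + (conjGL D⁻¹ g).1 1 1 = 2 := ht'
      rwa [e] at this
    have h4 : (2 : F) ∈ K := by
      have := K.add_mem K.one_mem K.one_mem
      rwa [one_add_one_eq_two] at this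
    have := K.mul_mem (K.inv_mem h4) h3
    rwa [inv_mul_cancel_left₀ h2] at this
  intro i j
  have := K.mul_mem (h' i j) (K.inv_mem hcK)
  rwa [mul_inv_cancel_right₀ hc] at this

theorem sub_inv (Γ : GL (Fin 2) F) : (Γ⁻¹).1 =
    (Γ.1.det)⁻¹ • !![Γ.1 1 1, -Γ.1 0 1; -Γ.1 1 0, Γ.1 0 0] := by
  have : (Γ⁻¹).1 = (Γ.1)⁻¹ := Matrix.coe_units_inv Γ
  rw [this, Matrix.inv_def, Matrix.adjugate_fin_two, Ring.inverse_eq_inv']

theorem sub_field {K : Subfield F} {a b c d δ : F} (hδ : δ = a * d - b * c) (hδ0 : δ ≠ 0)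
    (haa : a ^ 2 / δ ∈ K) (hac : a * c / δ ∈ K) (hcc : c ^ 2 / δ ∈ K)
    (hbb : b ^ 2 / δ ∈ K) (hbd : b * d / δ ∈ K) (hdd : d ^ 2 / δ ∈ K) :
    ∃ u : F, u ≠ 0 ∧ a * u ∈ K ∧ b * u ∈ K ∧ c * u ∈ K ∧ d * u ∈ K := by
  have had : a * d / δ ∈ K := by
    have := K.sub_mem (K.mul_mem haa hdd) (K.mul_mem hac hbd)
    have e : a ^ 2 / δ * (d ^ 2 / δ) - a * c / δ * (b * d / δ) = a * d / δ := by
      field_simp
      rw [hδ]; ring
    rwa [e] at this
  have hab : a * b / δ ∈ K := by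
    have := K.sub_mem (K.mul_mem haa hbd) (K.mul_mem hac hbb)
    have e : a ^ 2 / δ * (b * d / δ) - a * c / δ * (b ^ 2 / δ) = a * b / δ := by
      field_simp
      rw [hδ]; ring
    rwa [e] at this
  have hcd : c * d / δ ∈ K := by
    have := K.sub_mem (K.mul_mem hac hdd) (K.mul_mem hcc hbd)
    have e : a * c / δ * (d ^ 2 / δ) - c ^ 2 / δ * (b * d / δ) = c * d / δ := by
      field_simp
      rw [hδ]; ring
    rwa [e] at this
  have hbc : b * c / δ ∈ K := by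
    have := K.sub_mem (K.mul_mem hac hbd) (K.mul_mem hcc hbb)
    have e : a * c / δ * (b * d / δ) - c ^ 2 / δ * (b ^ 2 / δ) = b * c / δ := by
      field_simp
      rw [hδ]; ring
    rwa [e] at this
  by_cases ha : a = 0
  · have hc : c ≠ 0 := by
      rintro rfl
      apply hδ0
      rw [hδ, ha]; ring
    refine ⟨c / δ, div_ne_zero hc hδ0, ?_, ?_, ?_, ?_⟩
    · rw [← mul_div_assoc]; exact hac
    · rw [← mul_div_assoc]; exact hbc
    · rw [← mul_div_assoc, ← sq]; exact hcc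
    · rw [← mul_div_assoc, mul_comm]; exact hcd
  · refine ⟨a / δ, div_ne_zero ha hδ0, ?_, ?_, ?_, ?_⟩
    · rw [← mul_div_assoc, ← sq]; exact haa
    · rw [← mul_div_assoc, mul_comm]; exact hab
    · rw [← mul_div_assoc, mul_comm]; exact hac
    · rw [← mul_div_assoc, mul_comm]; exact had

theorem sub_map_ll (K : Subfield F) (c : K) :
    SpecialLinearGroup.map (n := Fin 2) K.subtype (ll c) = ll (c : F) := by
  apply ext2 <;> simp [ll, SpecialLinearGroup.map_apply_coe]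

theorem sub_matU {a b c d δ : F} (hδ : δ = a * d - b * c) (hδ0 : δ ≠ 0) :
    !![a, b; c, d] * (uu (1 : F)).1 * (δ⁻¹ • !![d, -b; -c, a]) =
      !![1 - a * c / δ, a ^ 2 / δ; -(c ^ 2 / δ), 1 + a * c / δ] := by
  have e : (uu (1 : F)).1 = !![1, 1; 0, 1] := rfl
  rw [e]
  ext i j
  fin_cases i <;> fin_cases j <;>
    simp [Matrix.mul_apply, Fin.sum_univ_two] <;> field_simp <;> (try rw [hδ]) <;> ring

theorem sub_matL {a b c d δ : F} (hδ : δ = a * d - b * c) (hδ0 : δ ≠ 0) :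
    !![a, b; c, d] * (ll (1 : F)).1 * (δ⁻¹ • !![d, -b; -c, a]) =
      !![1 + b * d / δ, -(b ^ 2 / δ); d ^ 2 / δ, 1 - b * d / δ] := by
  have e : (ll (1 : F)).1 = !![1, 0; 1, 1] := rfl
  rw [e]
  ext i j
  fin_cases i <;> fin_cases j <;>
    simp [Matrix.mul_apply, Fin.sum_univ_two] <;> field_simp <;> (try rw [hδ]) <;> ring

theorem le_YD_of_insub [Fintype F] (h2 : (2 : F) ≠ 0)
    {M : Subgroup (ProjGenLinGroup (Fin 2) F)} {K : Subfield F} {D : GL (Fin 2) F}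
    (hIn : InSub K D (G0 M)) : M ≤ YD K D := by
  intro m hm
  obtain ⟨Δ, rfl⟩ := ProjGenLinGroup.mk_surjective m
  rw [mem_YD, ← map_inv, ← map_mul, ← map_mul]
  set Γ : GL (Fin 2) F := D * Δ * D⁻¹ with hΓ
  have hkey : ∀ s₀ : SpecialLinearGroup (Fin 2) K,
      tr (SpecialLinearGroup.map (n := Fin 2) K.subtype s₀) = 2 →
      ∀ i j, (Γ.1 * (SpecialLinearGroup.map (n := Fin 2) K.subtype s₀).1 * (Γ⁻¹).1) i j ∈ K := by
    intro s₀ hs₀
    have h1 : embK K D s₀ ∈ G0 M := InSub.embK_mem hIn (center_le_G0 M) s₀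
    have h2' : conjGL Δ⁻¹ (embK K D s₀) ∈ G0 M :=
      conjGL_mem_G0 (by rw [map_inv]; exact M.inv_mem hm) h1
    have h3 := sub_tr_two h2 (InSub.le_subM le_rfl hIn h2') (by
      rw [tr_conjGL]
      show tr (conjGL D (SpecialLinearGroup.map (n := Fin 2) K.subtype s₀)) = 2
      rw [tr_conjGL, hs₀])
    have e : SpecialLinearGroup.toGL (conjGL D⁻¹ (conjGL Δ⁻¹ (embK K D s₀))) =
        Γ * SpecialLinearGroup.toGL (SpecialLinearGroup.map (n := Fin 2) K.subtype s₀) * Γ⁻¹ := by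
      rw [toGL_conjGL, toGL_conjGL]
      show _ * (_ * SpecialLinearGroup.toGL
        (conjGL D (SpecialLinearGroup.map (n := Fin 2) K.subtype s₀)) * _) * _ = _
      rw [toGL_conjGL, hΓ]
      group
    intro i j
    have e2 : (conjGL D⁻¹ (conjGL Δ⁻¹ (embK K D s₀))).1 i j =
        (Γ.1 * (SpecialLinearGroup.map (n := Fin 2) K.subtype s₀).1 * (Γ⁻¹).1) i j :=
      congrArg (fun g : GL (Fin 2) F => g.1 i j) e
    rw [← e2]
    exact h3 i j
  set a := Γ.1 0 0 with ha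
  set b := Γ.1 0 1 with hb
  set c := Γ.1 1 0 with hc
  set d := Γ.1 1 1 with hd
  have hΓm : Γ.1 = !![a, b; c, d] := by
    ext i j; fin_cases i <;> fin_cases j <;> rfl
  have hdet : Γ.1.det = a * d - b * c := by rw [Matrix.det_fin_two]
  have hδ0 : Γ.1.det ≠ 0 := by
    have := Γ.det.ne_zero
    exact this
  set δ := Γ.1.det with hδ
  have hinv : (Γ⁻¹).1 = δ⁻¹ • !![d, -b; -c, a] := sub_inv Γ
  have hU := hkey (uu 1) (by rw [map_uu]; simp [tr, uu]; norm_num)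
  have hL := hkey (ll 1) (by rw [sub_map_ll]; simp [tr, ll]; norm_num)
  rw [map_uu, hΓm, hinv] at hU
  rw [sub_map_ll, hΓm, hinv] at hL
  have e1 : ((1 : K) : F) = 1 := rfl
  rw [e1, sub_matU hdet hδ0] at hU
  rw [e1, sub_matL hdet hδ0] at hL
  have haa : a ^ 2 / δ ∈ K := hU 0 1
  have hcc : c ^ 2 / δ ∈ K := by
    have := K.neg_mem (hU 1 0)
    simpa using this
  have hac : a * c / δ ∈ K := by
    have := K.sub_mem (hU 1 1) K.one_mem
    simpa using this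
  have hdd : d ^ 2 / δ ∈ K := hL 1 0
  have hbb : b ^ 2 / δ ∈ K := by
    have := K.neg_mem (hL 0 1)
    simpa using this
  have hbd : b * d / δ ∈ K := by
    have := K.sub_mem (hL 0 0) K.one_mem
    simpa using this
  obtain ⟨u, hu, h1, h2', h3, h4⟩ := sub_field hdet hδ0 haa hac hcc hbb hbd hdd
  rw [PSub.mk_mem_range_iff]
  exact ⟨u, hu, PSub.forall_fin2 h1 h2' h3 h4⟩

end Cfsg.Agent.Lib.Helper7.PGLMax
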