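import Cfsg.Agent.Lib.Helper7.PGL.Defs
import Cfsg.Agent.Lib.Helper7.PGL.BAS
import Cfsg.Agent.Lib.Helper7.PGL.PP

set_option autoImplicit false
set_option linter.unusedSimpArgs false
set_option linter.unusedSectionVars false
set_option linter.unusedVariables false

/-! Ladder PGLMAX (statement S5891), rung TOR. -/

namespace Cfsg.Agent.Lib.Helper7.PGLMax

open Matrix MatrixGroups Subgroup Cfsg.Agent.Lib.Helper46 Cfsg.Agent.Lib.Helper18.SL2
open Cfsg.Agent.Lib.Helper7 Cfsg.Agent.Lib.Helper7.PMax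

variable {F : Type*} [Field F]

/-- an element inverting a noncentral `x` inverts the whole centraliser of `x` -/
theorem tor_inv {x w c : SpecialLinearGroup (Fin 2) F}
    (hx : x ∉ center (SpecialLinearGroup (Fin 2) F)) (hw : w * x * w⁻¹ = x⁻¹)
    (hc : Commute c x) : w * c * w⁻¹ = c⁻¹ := by
  obtain ⟨α, β, c00, c01, c10, c11⟩ := commutant x c hx hc.eq
  have h' : w * x = x⁻¹ * w := by
    have := congrArg (· * w) hw
    simpa using this
  have e00 := congrArg (fun Z : SpecialLinearGroup (Fin 2) F => Z.1 0 0) h'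
  have e01 := congrArg (fun Z : SpecialLinearGroup (Fin 2) F => Z.1 0 1) h'
  have e10 := congrArg (fun Z : SpecialLinearGroup (Fin 2) F => Z.1 1 0) h'
  have e11 := congrArg (fun Z : SpecialLinearGroup (Fin 2) F => Z.1 1 1) h'
  simp only [mul_00, mul_01, mul_10, mul_11, inv_00, inv_01, inv_10, inv_11] at e00 e01 e10 e11
  have key : w * c = c⁻¹ * w := by
    apply ext2 <;>
      simp only [mul_00, mul_01, mul_10, mul_11, inv_00, inv_01, inv_10, inv_11, c00, c01, c10, c11]
    · linear_combination β * e00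
    · linear_combination β * e01
    · linear_combination β * e10
    · linear_combination β * e11
  rw [key]; group

theorem tor_pow_four_of_tr {s : SpecialLinearGroup (Fin 2) F} (h : tr s = 0) : s ^ 4 = 1 := by
  have h1 := pow_center_of_mk (mk_pow_two_of_tr h)
  have h2 := sq_eq_one_of_mem_center _ h1
  calc s ^ 4 = s ^ 2 * s ^ 2 := by rw [← pow_add]
    _ = 1 := h2

theorem tor_pow_four_of_center {s : SpecialLinearGroup (Fin 2) F}
    (h : s ∈ center (SpecialLinearGroup (Fin 2) F)) : s ^ 4 = 1 := by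
  have h2 := sq_eq_one_of_mem_center _ h
  calc s ^ 4 = (s * s) ^ 2 := by rw [← pow_two, ← pow_mul]
    _ = 1 := by rw [h2, one_pow]

theorem tor_case [Fintype F] (hodd : Odd (Fintype.card F)) (hq : 3 < Fintype.card F)
    {M : Subgroup (ProjGenLinGroup (Fin 2) F)} (h : Ctx M)
    {x : SpecialLinearGroup (Fin 2) F} (hx : x ∈ G0 M) (hs : tr x ^ 2 ≠ 4)
    (hall : ∀ g ∈ G0 M, Commute g x ∨ g * x * g⁻¹ = x⁻¹)
    {a : SpecialLinearGroup (Fin 2) F} (ha : a ∈ G0 M) (hax : Commute a x) (ha4 : a ^ 4 ≠ 1) :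
    G0 M = torN x ∧
    (∀ Δ : GL (Fin 2) F, ProjGenLinGroup.mk Δ ∈ M → (conjGL Δ x = x ∨ conjGL Δ x = x⁻¹)) ∧
    ∃ w ∈ G0 M, w * a * w⁻¹ = a⁻¹ := by
  classical
  have hxc : x ∉ center (SpecialLinearGroup (Fin 2) F) := fun hc => hs (tr_sq_of_mem_center x hc)
  set S : Set (SpecialLinearGroup (Fin 2) F) := {s | s ∈ G0 M ∧ s ^ 4 ≠ 1} with hS
  set R : Subgroup (SpecialLinearGroup (Fin 2) F) := closure S with hR
  have hScomm : ∀ s ∈ S, Commute s x := by
    intro s hs'
    rcases hall s hs'.1 with h1 | h1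
    · exact h1
    · exact absurd (tor_pow_four_of_tr (tr_eq_zero_of_inverts hs h1)) hs'.2
  have hRcomm : ∀ s ∈ R, Commute s x := by
    have : R ≤ centralizer ({x} : Set (SpecialLinearGroup (Fin 2) F)) := by
      rw [hR, closure_le]
      intro s hs'
      exact mem_centralizer_singleton_iff.2 (hScomm s hs').eq
    intro s hs'
    exact mem_centralizer_singleton_iff.1 (this hs')
  have hRG : R ≤ G0 M := by
    rw [hR, closure_le]
    intro s hs'
    exact hs'.1
  have haR : a ∈ R := subset_closure ⟨ha, ha4⟩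
  have hR1 : ¬ R ≤ center (SpecialLinearGroup (Fin 2) F) :=
    fun hle => ha4 (tor_pow_four_of_center (hle haR))
  have hinv : ∀ Δ : GL (Fin 2) F, ProjGenLinGroup.mk Δ ∈ M → ∀ s ∈ R, conjGL Δ s ∈ R := by
    intro Δ hΔ
    have hle : R ≤ R.comap (conjGLHom Δ) := by
      rw [hR, closure_le]
      intro s hs'
      refine subset_closure ⟨conjGL_mem_G0 hΔ hs'.1, ?_⟩
      intro h4
      apply hs'.2
      apply conjGLHom_injective Δ
      rw [map_pow, map_one, conjGLHom_apply]
      exact h4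
    intro s hs'
    exact hle hs'
  have hnorm : ∀ n ∈ torN x, ∀ s ∈ R, n * s * n⁻¹ ∈ R := by
    intro n hn s hs'
    rcases (mem_torN_iff hs).1 hn with h1 | h1
    · have : Commute n s := commTrans_SL2 x n s hxc h1 (hRcomm s hs')
      have e : n * s * n⁻¹ = s := by rw [this.eq]; group
      rw [e]; exact hs'
    · rw [tor_inv hxc h1 (hRcomm s hs')]
      exact R.inv_mem hs'
  have hG : G0 M = torN x := by
    apply le_antisymm (le_torN hs hall)
    intro n hn
    exact mem_G0_of_normalizes hq h R hR1 hRG hinv (hnorm n hn)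
  refine ⟨hG, ?_, ?_⟩
  · intro Δ hΔ
    have hyR : conjGL Δ a ∈ R := hinv Δ hΔ a haR
    have hy4 : (conjGL Δ a) ^ 4 ≠ 1 := by
      intro h4
      apply ha4
      apply conjGLHom_injective Δ
      rw [map_pow, map_one, conjGLHom_apply]
      exact h4
    have hyc : conjGL Δ a ∉ center (SpecialLinearGroup (Fin 2) F) :=
      fun hc => hy4 (tor_pow_four_of_center hc)
    have h1 : Commute (conjGL Δ x) (conjGL Δ a) := by
      have := hax.symm.map (conjGLHom Δ)
      simpa [conjGLHom_apply] using this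
    have h2 : Commute x (conjGL Δ a) := (hRcomm _ hyR).symm
    have h3 : Commute (conjGL Δ x) x := commTrans_SL2 (conjGL Δ a) (conjGL Δ x) x hyc h1 h2
    exact same_or_inv' x (conjGL Δ x) hs h3.eq (tr_conjGL Δ x)
  · obtain ⟨w, hw⟩ := exists_inverting hs (by omega : 3 ≤ Fintype.card F)
    refine ⟨w, ?_, tor_inv hxc hw hax⟩
    rw [hG]
    exact (mem_torN_iff hs).2 (Or.inr hw)

end Cfsg.Agent.Lib.Helper7.PGLMax
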