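import Cfsg.Agent.Lib.Helper7.PGL.Defs

set_option autoImplicit false
set_option linter.unusedSimpArgs false
set_option linter.unusedSectionVars false
set_option linter.unusedVariables false

/-! Ladder PGLMAX (statement S5891), rung UNI. -/

namespace Cfsg.Agent.Lib.Helper7.PGLMax

open Matrix MatrixGroups Subgroup Cfsg.Agent.Lib.Helper46 Cfsg.Agent.Lib.Helper18.SL2
open Cfsg.Agent.Lib.Helper7 Cfsg.Agent.Lib.Helper7.PMax

variable {F : Type*} [Field F]

theorem tr_eq_two_of_orderOf [Fintype F] (p : ℕ) [Fact p.Prime] [CharP F p]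
    {y : SpecialLinearGroup (Fin 2) F} (hy : orderOf y = p) : tr y = 2 := by
  obtain ⟨n, -, hn⟩ := FiniteField.card F p
  have h1 : y ^ Fintype.card F = 1 := by
    rw [← orderOf_dvd_iff_pow_eq_one, hy, hn]
    exact dvd_pow_self p n.ne_zero
  have h2 := FiniteField.trace_pow_card (y : Matrix (Fin 2) (Fin 2) F)
  rw [FiniteField.pow_card] at h2
  have h4 : (y : Matrix (Fin 2) (Fin 2) F) ^ Fintype.card F = 1 := by
    have := congrArg (fun z : SpecialLinearGroup (Fin 2) F => (z : Matrix (Fin 2) (Fin 2) F)) h1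
    simpa using this
  rw [h4] at h2
  have h3 : tr y = Matrix.trace (y : Matrix (Fin 2) (Fin 2) F) := by
    rw [Matrix.trace_fin_two]; rfl
  rw [h3, ← h2]
  simp [Matrix.trace_fin_two]

end Cfsg.Agent.Lib.Helper7.PGLMax
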