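import Cfsg.Agent.Lib.Helper7.PGL.Defs
import Cfsg.Agent.Lib.Helper7.PGL.BAS
import Cfsg.Agent.Lib.Helper7.PGL.PP
import Cfsg.Agent.Lib.Helper7.PGL.BOR
import Cfsg.Agent.Lib.Helper7.PGL.TOR
import Cfsg.Agent.Lib.Helper7.PGL.SMALL
import Cfsg.Agent.Lib.Helper7.PGL.SUB
import Cfsg.Agent.Lib.Helper7.PGL.MAXSUB
import Cfsg.Agent.Lib.Helper7.PGL.EMB
import Cfsg.Agent.Lib.Helper7.PGL.DIH
import Cfsg.Agent.Lib.Helper7.PGL.NUM
import Cfsg.Agent.Lib.Helper7.PGL.UNI
import Cfsg.Agent.Lib.Helper7.PGL.A4
import Cfsg.Agent.Lib.Helper7.PGL.DICK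

set_option autoImplicit false
set_option linter.unusedSimpArgs false
set_option linter.unusedSectionVars false
set_option linter.unusedVariables false

/-! Ladder PGLMAX (statement S5891), rung ASM. -/

namespace Cfsg.Agent.Lib.Helper7.PGLMax

open Matrix MatrixGroups Subgroup Cfsg.Agent.Lib.Helper46 Cfsg.Agent.Lib.Helper18.SL2
open Cfsg.Agent.Lib.Helper7 Cfsg.Agent.Lib.Helper7.PMax

variable {F : Type*} [Field F]

theorem main [Fintype F] (hodd : Odd (Fintype.card F)) (h3 : 3 < Fintype.card F)
    (M : Subgroup (Matrix.ProjGenLinGroup (Fin 2) F)) (hM : IsCoatom M)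
    (hML : ¬ (Matrix.ProjGenLinGroup.mk.comp Matrix.SpecialLinearGroup.toGL).range ≤ M) :
    Nat.card M = Fintype.card F * (Fintype.card F - 1) ∨
    (Fintype.card F ≠ 5 ∧ Nonempty (M ≃* DihedralGroup (Fintype.card F - 1))) ∨
    Nonempty (M ≃* DihedralGroup (Fintype.card F + 1)) ∨
    ((Fintype.card F).Prime ∧ (Fintype.card F % 8 = 3 ∨ Fintype.card F % 8 = 5) ∧
      Nonempty (M ≃* Equiv.Perm (Fin 4))) ∨
    (∃ (F₀ : Type) (_ : Field F₀) (_ : Fintype F₀) (r : ℕ), r.Prime ∧ Odd r ∧
      Fintype.card F = Fintype.card F₀ ^ r ∧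
        Nonempty (M ≃* Matrix.ProjGenLinGroup (Fin 2) F₀)) := by
  have h : Ctx M := ⟨hM, hML⟩
  have h2 : (2 : F) ≠ 0 := PSub.two_ne_zero_of_odd_card hodd
  obtain ⟨p, hp⟩ := CharP.exists F
  have : Fact p.Prime := ⟨CharP.char_is_prime F p⟩
  have hZ := center_le_G0 M
  have hcard := card_eq hodd h
  have hzc : zc F = 2 := zc_of_two_ne h2
  have hcz : Nat.card (center (SpecialLinearGroup (Fin 2) F)) = 2 := hzc
  obtain ⟨e'⟩ := map_G0_equiv M
  have torH : Tor (G0 M) → (Fintype.card F ≠ 5 ∧ Nonempty (M ≃* DihedralGroup (Fintype.card F - 1))) ∨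
      Nonempty (M ≃* DihedralGroup (Fintype.card F + 1)) := by
    rintro ⟨x, hx, hs, hall⟩
    by_cases hex : ∃ a ∈ G0 M, Commute a x ∧ a ^ 4 ≠ 1
    · obtain ⟨a, ha, hax, ha4⟩ := hex
      obtain ⟨hG, hinv, w, hw, hwa⟩ := tor_case hodd h3 h hx hs hall ha hax ha4
      have hc : Nat.card M = 2 * Nat.card (centralizer ({x} : Set (SpecialLinearGroup (Fin 2) F))) := by
        rw [hcard, hG, card_torN hs (by omega)]
      have hnc : ∃ a ∈ M, ∃ b ∈ M, a * b ≠ b * a := by
        refine ⟨_, mem_G0.1 hw, _, mem_G0.1 ha, ?_⟩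
        intro hcomm
        apply ha4
        have h5 : (a⁻¹ * a⁻¹ : SpecialLinearGroup (Fin 2) F) ∈
            center (SpecialLinearGroup (Fin 2) F) := by
          rw [← SpecialLinearGroup.toPGL_ker, MonoidHom.mem_ker]
          show ProjGenLinGroup.mk (SpecialLinearGroup.toGL (a⁻¹ * a⁻¹)) = 1
          nth_rewrite 1 [← hwa]
          rw [map_mul, map_mul, map_mul, map_mul, map_mul, map_mul, hcomm, map_inv, map_inv,
            map_inv, map_inv]
          group
        have h6 := sq_eq_one_of_mem_center _ h5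
        have h7 : (a ^ 4)⁻¹ = 1 := by
          rw [← h6]; group
        exact inv_eq_one.1 h7
      have hd := dih_of_tor hodd hx hs hinv hc hnc
      rcases card_centralizer_ss hs with h1 | h1
      · right; rw [h1] at hd; exact hd
      · left
        refine ⟨?_, by rw [h1] at hd; exact hd⟩
        intro h5
        apply ha4
        have hac : a ∈ centralizer ({x} : Set (SpecialLinearGroup (Fin 2) F)) := by
          rw [mem_centralizer_iff]
          intro y hy
          rw [Set.mem_singleton_iff] at hy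
          rw [hy]; exact hax.eq.symm
        have h6 : (⟨a, hac⟩ : centralizer ({x} : Set (SpecialLinearGroup (Fin 2) F))) ^
            Nat.card (centralizer ({x} : Set (SpecialLinearGroup (Fin 2) F))) = 1 := pow_card_eq_one'
        rw [h1, h5] at h6
        exact congrArg Subtype.val h6
    · push Not at hex
      exfalso
      apply small_case hodd h3 h
      intro s hs'
      rcases hall s hs' with h1 | h1
      · exact hex s hs' h1
      · exact tor_pow_four_of_tr (tr_eq_zero_of_inverts hs h1)
  by_cases hss : ∀ x ∈ G0 M, x ∉ center (SpecialLinearGroup (Fin 2) F) → tr x ^ 2 ≠ 4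
  · rcases pprime_analysis (G0 M) hZ hss with hc | ht | h12 | h24 | h60
    · exfalso
      apply small_case hodd h3 h
      intro s hs'
      rw [hc] at hs'
      have h6 : (⟨s, hs'⟩ : center (SpecialLinearGroup (Fin 2) F)) ^
          Nat.card (center (SpecialLinearGroup (Fin 2) F)) = 1 := pow_card_eq_one'
      rw [hcz] at h6
      have h7 : s ^ 2 = 1 := congrArg Subtype.val h6
      rw [show 4 = 2 * 2 from rfl, pow_mul, h7, one_pow]
    · exact (torH (Tor_of_card ht)).elim (fun a => Or.inr (Or.inl a)) (fun b => Or.inr (Or.inr (Or.inl b)))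
    · obtain ⟨e⟩ := exc12 (M := img (G0 M)) (by rw [pre_img hZ]; exact h12.1)
        (by rw [pre_img hZ]; exact h12.2)
      obtain ⟨h8, D, hD⟩ := a4_case p hodd h3 h e
      by_cases hbot : (⊥ : Subfield F) = ⊤
      · right; right; right; left
        have hqp : Fintype.card F = p := by
          have h9 := Subfield.card_bot F p
          rw [hbot] at h9
          rw [← h9, ← Nat.card_eq_fintype_card]
          exact (Nat.card_congr (Subfield.topEquiv (K := F)).toEquiv).symm
        refine ⟨hqp ▸ Fact.out, h8, ?_⟩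
        exact s4_of_24 hodd p (by omega) (by rw [hcard, h12.1, hzc]) (map_G0_le M) (e'.trans e)
      · right; right; right; right
        exact maxsub hodd h hbot D hD
    · obtain ⟨e⟩ := exc24 (M := img (G0 M)) (by rw [pre_img hZ]; exact h24.1)
        (by rw [pre_img hZ]; exact h24.2)
      exact (no_48 hodd (by rw [hcard, h24.1, hzc]) (map_G0_le M) (e'.trans e)).elim
    · obtain ⟨e⟩ := exc60 (M := img (G0 M)) (by rw [pre_img hZ]; exact h60.1)
        (by rw [pre_img hZ]; exact h60.2)
      have hp5 : p = 5 := char_five_of_120 hodd p (by rw [hcard, h60.1, hzc]) (map_G0_le M)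
        (e'.trans e)
      exfalso
      have hdvd : p ∣ Nat.card (G0 M) := by rw [h60.1, hzc, hp5]; norm_num
      obtain ⟨y, hy⟩ := exists_prime_orderOf_dvd_card' p hdvd
      have hy' : orderOf (y : SpecialLinearGroup (Fin 2) F) = p := by
        rw [Subgroup.orderOf_coe]; exact hy
      have ht := tr_eq_two_of_orderOf p hy'
      apply hss y y.2 ?_ (by rw [ht]; norm_num)
      intro hyc
      have h6 : (⟨y.1, hyc⟩ : center (SpecialLinearGroup (Fin 2) F)) ^
          Nat.card (center (SpecialLinearGroup (Fin 2) F)) = 1 := pow_card_eq_one'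
      rw [hcz] at h6
      have h7 : (y : SpecialLinearGroup (Fin 2) F) ^ 2 = 1 := congrArg Subtype.val h6
      have h8 := orderOf_dvd_of_pow_eq_one h7
      rw [hy', hp5] at h8
      norm_num at h8
  · push Not at hss
    obtain ⟨x, hxG, hxc, hxt⟩ := hss
    obtain ⟨u, huG, huc, hut⟩ : ∃ u ∈ G0 M, u ∉ center (SpecialLinearGroup (Fin 2) F) ∧ tr u = 2 := by
      have h' : (tr x - 2) * (tr x + 2) = 0 := by linear_combination hxt
      rcases mul_eq_zero.1 h' with h1 | h1
      · exact ⟨x, hxG, hxc, by linear_combination h1⟩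
      · refine ⟨negOne * x, (G0 M).mul_mem (hZ negOne_mem_center) hxG, ?_, ?_⟩
        · intro h
          apply hxc
          have := (center _).mul_mem ((center _).inv_mem negOne_mem_center) h
          simpa using this
        · rw [tr_negOne_mul]; linear_combination -h1
    rcases dickson' p (G0 M) hZ huG huc hut with hB | hT | ⟨h60, h30⟩ | ⟨K, D, hIn, hK3⟩
    · left; rw [hcard]; exact bor_case hodd h3 h hB huG huc hut
    · exact (torH hT).elim (fun a => Or.inr (Or.inl a)) (fun b => Or.inr (Or.inr (Or.inl b)))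
    · obtain ⟨e⟩ := exc60 (M := img (G0 M)) (by rw [pre_img hZ]; exact h60.1)
        (by rw [pre_img hZ]; exact h60.2)
      have hp5 : p = 5 := char_five_of_120 hodd p (by rw [hcard, h60.1, hzc]) (map_G0_le M)
        (e'.trans e)
      exfalso
      subst hp5
      have h9 : ((3 : ℕ) : F) = 0 := by push_cast; exact h30
      rw [CharP.cast_eq_zero_iff F 5] at h9
      norm_num at h9
    · right; right; right; right
      have hle := le_YD_of_insub h2 hIn
      have hK : K ≠ ⊤ := by
        rintro rfl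
        have hIn' : InSub ⊤ D (pre (img (G0 M))) := by rw [pre_img hZ]; exact hIn
        have h9 := (InSub.card_dvd hIn').2 (by
          rw [← Nat.card_eq_fintype_card]
          exact Nat.card_congr (Subfield.topEquiv (K := F)).toEquiv)
        apply G0_ne_top h
        rw [← pre_img hZ, h9, pre_top]
      exact maxsub hodd h hK D hle

end Cfsg.Agent.Lib.Helper7.PGLMax
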