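import Mathlib
import Cfsg.Agent.Lib.Helper7.PSL2OddH
import Cfsg.Agent.Lib.Helper7.PSL13C
import Cfsg.Agent.Lib.Helper18.SL2.PGLSub
import Cfsg.Agent.S0265

set_option autoImplicit false
set_option linter.unusedSimpArgs false
set_option linter.unusedSectionVars false
set_option linter.unusedVariables false

/-! Maximal subgroups of `PGL₂(q)`, `q` odd (statement S5891): definitions of the ladder PGLMAX. -/

namespace Cfsg.Agent.Lib.Helper7.PGLMax

open Matrix MatrixGroups Subgroup Cfsg.Agent.Lib.Helper46 Cfsg.Agent.Lib.Helper18.SL2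
open Cfsg.Agent.Lib.Helper7 Cfsg.Agent.Lib.Helper7.PMax

variable {F : Type*} [Field F]

/-- the preimage in `SL₂(F)` of a subgroup of `PGL₂(F)` -/
noncomputable def G0 (M : Subgroup (ProjGenLinGroup (Fin 2) F)) :
    Subgroup (SpecialLinearGroup (Fin 2) F) :=
  M.comap (ProjGenLinGroup.mk.comp SpecialLinearGroup.toGL)

theorem mem_G0 {M : Subgroup (ProjGenLinGroup (Fin 2) F)} {s : SpecialLinearGroup (Fin 2) F} :
    s ∈ G0 M ↔ ProjGenLinGroup.mk (SpecialLinearGroup.toGL s) ∈ M := Iff.rfl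

/-- the standing hypothesis of S5891 -/
structure Ctx (M : Subgroup (ProjGenLinGroup (Fin 2) F)) : Prop where
  coatom : IsCoatom M
  notle : ¬ (ProjGenLinGroup.mk.comp
    (SpecialLinearGroup.toGL (n := Fin 2) (R := F))).range ≤ M

/-- the conjugate by `D` of the subfield subgroup `PGL₂(K)` of `PGL₂(F)` -/
noncomputable def YD (K : Subfield F) (D : GL (Fin 2) F) : Subgroup (ProjGenLinGroup (Fin 2) F) :=
  (ProjGenLinGroup.map (n := Fin 2) K.subtype).range.comap
    (MulAut.conj (ProjGenLinGroup.mk D)).toMonoidHom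

theorem mem_YD {K : Subfield F} {D : GL (Fin 2) F} {m : ProjGenLinGroup (Fin 2) F} :
    m ∈ YD K D ↔ ProjGenLinGroup.mk D * m * (ProjGenLinGroup.mk D)⁻¹ ∈
      (ProjGenLinGroup.map (n := Fin 2) K.subtype).range := Iff.rfl

/-- the subfield conclusion of S5891 -/
def Goal5 (F : Type*) [Field F] [Fintype F] (X : Type*) [Group X] : Prop :=
  ∃ (F₀ : Type) (_ : Field F₀) (_ : Fintype F₀) (r : ℕ), r.Prime ∧ Odd r ∧
    Fintype.card F = Fintype.card F₀ ^ r ∧ Nonempty (X ≃* Matrix.ProjGenLinGroup (Fin 2) F₀)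

end Cfsg.Agent.Lib.Helper7.PGLMax
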