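import Cfsg.Agent.Lib.Helper7.PGL.Defs
import Cfsg.Agent.Lib.Helper7.PGL.EMB

set_option autoImplicit false
set_option linter.unusedSimpArgs false
set_option linter.unusedSectionVars false
set_option linter.unusedVariables false

/-! Ladder PGLMAX (statement S5891), rung NUM, second part. -/

namespace Cfsg.Agent.Lib.Helper7.PGLMax

open Matrix MatrixGroups Subgroup Cfsg.Agent.Lib.Helper46 Cfsg.Agent.Lib.Helper18.SL2
open Cfsg.Agent.Lib.Helper7 Cfsg.Agent.Lib.Helper7.PMax

variable {F : Type*} [Field F]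

theorem num_s4_psl [Fintype F] (hodd : Odd (Fintype.card F)) (p : ℕ) [Fact p.Prime] [CharP F p]
    (hp3 : p ≠ 3)
    {M H : Subgroup (ProjectiveSpecialLinearGroup (Fin 2) F)} (hcard : Nat.card M = 24)
    (hH : H ≤ M) (e : H ≃* alternatingGroup (Fin 4)) : Nonempty (M ≃* Equiv.Perm (Fin 4)) := by
  have h2 : (2 : F) ≠ 0 := PSub.two_ne_zero_of_odd_card hodd
  have hz : zc F = 2 := zc_of_two_ne h2
  have hpodd : Odd p := by
    rcases (Fact.out : p.Prime).eq_two_or_odd' with rfl | ho
    · exfalso
      apply h2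
      exact_mod_cast CharP.cast_eq_zero F 2
    · exact ho
  rcases dickson_full' p (pre M) (center_le_pre M) with h | h | h | ⟨K, D, hIn, hK⟩
  · exfalso
    have hB : BorType (pre M) := h
    obtain ⟨g, hg⟩ := hB.commutator
    refine A4_not_pow hpodd (transfer_pow hH e p ?_)
    apply forall_mk
    intro x hx
    apply forall_mk
    intro y hy
    obtain ⟨e, he⟩ := hg x hx y hy
    have h1 : (x * y * x⁻¹ * y⁻¹) ^ p = 1 := by
      have e1 : (g⁻¹ * uu e * g) ^ p = g⁻¹ * uu e ^ p * g := by
        have := conj_pow (a := g⁻¹) (b := uu e) (i := p)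
        simpa using this
      rw [he, e1, uu_pow, CharP.cast_eq_zero, zero_mul, uu_zero]
      group
    have := congrArg (fun w => (QuotientGroup.mk w : ProjectiveSpecialLinearGroup (Fin 2) F)) h1
    simpa using this
  · exfalso
    refine A4_not_sq (transfer_sq hH e ?_)
    apply forall_mk
    intro x hx
    apply forall_mk
    intro y hy
    exact (Tor.sq_comm h x hx y hy).map (QuotientGroup.mk' (center (SpecialLinearGroup (Fin 2) F)))
  · rcases exc_recog h with ⟨⟨f⟩⟩ | hf | ⟨⟨f⟩⟩
    · exfalso
      have := Nat.card_congr f.toEquiv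
      rw [hcard, Nat.card_eq_fintype_card] at this
      revert this
      decide
    · exact hf
    · exfalso
      have := Nat.card_congr f.toEquiv
      rw [hcard, Nat.card_eq_fintype_card] at this
      revert this
      decide
  · exfalso
    set k := Nat.card K with hk
    have hbig : 4 ≤ k → 60 ≤ k * (k ^ 2 - 1) := by
      intro h4
      have h16 : 16 ≤ k ^ 2 := by nlinarith
      have h15 : 15 ≤ k ^ 2 - 1 := by omega
      calc 60 = 4 * 15 := by norm_num
        _ ≤ k * (k ^ 2 - 1) := Nat.mul_le_mul h4 h15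
    have hk3 : k = 3 := by
      rcases hIn.equiv M (fun g => Iff.rfl) with ⟨⟨f⟩⟩ | ⟨⟨f⟩⟩
      · have h1 := card_of_equiv_psl f
        rw [hz, hcard, ← hk] at h1
        by_contra hne
        have h4 : 4 ≤ k := by omega
        have := hbig h4
        omega
      · have h1 := card_of_equiv_pgl f
        rw [hcard, ← hk] at h1
        by_contra hne
        have h4 : 4 ≤ k := by omega
        have := hbig h4
        omega
    apply hp3
    have := Fintype.ofFinite K
    have h3 : ((Fintype.card K : ℕ) : K) = 0 := Nat.cast_card_eq_zero K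
    rw [← Nat.card_eq_fintype_card, ← hk, hk3] at h3
    have h3' : ((3 : ℕ) : F) = 0 := by
      have h4 : ((3 : ℕ) : F) = K.subtype ((3 : ℕ) : K) := (map_natCast K.subtype 3).symm
      rw [h4, h3, map_zero]
    have hdvd := (CharP.cast_eq_zero_iff F p 3).1 h3'
    exact (Nat.prime_dvd_prime_iff_eq Fact.out Nat.prime_three).1 hdvd

theorem s4_of_24 [Fintype F] (hodd : Odd (Fintype.card F)) (p : ℕ) [Fact p.Prime] [CharP F p]
    (hp3 : p ≠ 3)
    {M H : Subgroup (ProjGenLinGroup (Fin 2) F)} (hcard : Nat.card M = 24) (hH : H ≤ M)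
    (e : H ≃* alternatingGroup (Fin 4)) : Nonempty (M ≃* Equiv.Perm (Fin 4)) := by
  obtain ⟨E, _, _, _, φ, j, hcardE, hj, -⟩ := exists_emb hodd p
  have hoddE : Odd (Fintype.card E) := by rw [hcardE]; exact hodd.pow
  have eM : M ≃* M.map j := M.equivMapOfInjective j hj
  have eH : H ≃* H.map j := H.equivMapOfInjective j hj
  obtain ⟨f⟩ := num_s4_psl hoddE p hp3 (M := M.map j) (H := H.map j)
    (by rw [← Nat.card_congr eM.toEquiv, hcard]) (Subgroup.map_mono hH) (eH.symm.trans e)
  exact ⟨eM.trans f⟩

end Cfsg.Agent.Lib.Helper7.PGLMax
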